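/-
3-transposition groups with trivial radical in which `O₂(⟨D_x⟩)` is not central in `⟨D_x⟩`:
the lines, and the one-or-all property.

Main results: `Pre`, `pts`, `Pre.pts_eq`, `Pre.hit`, `Pre.hit_all`, `Pre.nondeg`, `Pre.ncard_line_nc`.
-/
import Cfsg.Agent.Lib.ThreeTrans.Solvable.Quadrangle

set_option autoImplicit false

namespace Cfsg.Agent.ThreeTrans.Polar

open Cfsg Cfsg.Agent.ThreeTransRank Cfsg.Agent.ThreeTrans
open Cfsg.Agent.ThreeTrans.SolvLocal (line loc loc_mem line_eq_of_loc_vRel ncard_line_eq cmap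
  of_cmap conj_fix commute_of_fix string_fact fifth)

variable {G : Type*} [Group G] {D : Set G}

/-- The setting. -/
structure Pre (D : Set G) : Prop where
  cls : IsThreeTranspositionClass D
  rad : TrivialRadical G
  conn : ConnectedComm D
  adj_ne : ∀ x ∈ D, (adj D x).Nonempty
  o2 : ∀ x ∈ D, ¬ pCore 2 ↥(Loc D x) ≤ Subgroup.center ↥(Loc D x)

/-- The singular line through two commuting members. -/
def pts (D : Set G) (a b : G) : Set G := {e | e ∈ line D a b ∧ (e = a ∨ line D a e = line D a b)}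

theorem line_comm (D : Set G) (a b : G) : line D a b = line D b a := by
  ext e; exact ⟨fun h => ⟨h.1, h.2.2, h.2.1⟩, fun h => ⟨h.1, h.2.2, h.2.1⟩⟩

theorem line_conj (hconj : ∀ g : G, ∀ d ∈ D, g * d * g⁻¹ ∈ D) (g a b : G) :
    line D (g * a * g⁻¹) (g * b * g⁻¹) = (fun e => g * e * g⁻¹) '' line D a b := by
  ext e
  constructor
  · rintro ⟨he, h1, h2⟩
    refine ⟨g⁻¹ * e * g, ⟨by simpa using hconj g⁻¹ e he, ?_, ?_⟩, by group⟩
    · simpa [mul_assoc] using h1.map (MulAut.conj g⁻¹).toMonoidHom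
    · simpa [mul_assoc] using h2.map (MulAut.conj g⁻¹).toMonoidHom
  · rintro ⟨u, ⟨hu, h1, h2⟩, rfl⟩
    exact ⟨hconj g u hu, cmap g h1, cmap g h2⟩

theorem left_mem_pts {a b : G} (ha : a ∈ D) (hab : Commute a b) : a ∈ pts D a b :=
  ⟨⟨ha, Commute.refl a, hab⟩, Or.inl rfl⟩

theorem right_mem_pts {a b : G} (hb : b ∈ D) (hab : Commute a b) : b ∈ pts D a b :=
  ⟨⟨hb, hab.symm, Commute.refl b⟩, Or.inr rfl⟩

theorem pts_commute {a b e e' : G} (he : e ∈ pts D a b) (he' : e' ∈ pts D a b) : Commute e e' := by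
  rcases he.2 with rfl | h
  · exact he'.1.2.1.symm
  · exact (h.symm ▸ he'.1 : e' ∈ line D a e).2.2.symm

theorem line_sub_pts {a b e e' : G} (he : e ∈ pts D a b) (he' : e' ∈ pts D a b) :
    line D a b ⊆ line D e e' := by
  have key : ∀ {u z : G}, u ∈ pts D a b → z ∈ line D a b → Commute z u := by
    intro u z hu hz
    rcases hu.2 with rfl | h
    · exact hz.2.1
    · exact (h.symm ▸ hz : z ∈ line D a u).2.2
  exact fun z hz => ⟨hz.1, key he hz, key he' hz⟩

/-- A fixed point free involution on a finite set makes it of even size. -/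
theorem even_ncard {α : Type*} {S : Set α} (hS : S.Finite) (f : α → α)
    (hmem : ∀ x ∈ S, f x ∈ S) (hne : ∀ x ∈ S, f x ≠ x) (hinv : ∀ x ∈ S, f (f x) = x) :
    Even S.ncard := by
  classical
  rw [Set.ncard_eq_toFinset_card S hS, ← ZMod.natCast_eq_zero_iff_even, Finset.cast_card]
  exact Finset.sum_involution (fun x _ => f x) (fun _ _ => CharTwo.add_self_eq_zero _)
    (fun x hx _ => hne x (hS.mem_toFinset.1 hx)) (fun x hx => hS.mem_toFinset.2 (hmem x (hS.mem_toFinset.1 hx)))
    (fun x hx => hinv x (hS.mem_toFinset.1 hx))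

namespace Pre

variable (h : Pre D)
include h

theorem set : IsThreeTranspositionSet D := h.cls.1

theorem conj : ∀ g : G, ∀ d ∈ D, g * d * g⁻¹ ∈ D := (group_of_class h.cls).2.1

theorem conj_mem' {d e : G} (hd : d ∈ D) (he : e ∈ D) : d * e * d ∈ D :=
  conj_mem h.set h.conj hd he

variable [Finite G]

theorem cores : CentralCores G := centralCores_of_trivialRadical h.rad

theorem two : ∃ a ∈ D, ∃ b ∈ D, a ≠ b := by
  obtain ⟨x, hx, -⟩ := id h.cls.2.1
  obtain ⟨y, hy⟩ := h.adj_ne x hx
  exact ⟨x, hx, y, hy.1, hy.2.1.symm⟩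

theorem vRel_eq {d v : G} (hd : d ∈ D) (hv : v ∈ D) (hr : VRel D d v) : d = v :=
  ThreeTrans.vRel_eq h.cls h.two h.cores.1 hd hv hr

/-- If everything commuting with `d` commutes with `v` then `d = v`. -/
theorem eq_of_sub {d v : G} (hd : d ∈ D) (hv : v ∈ D) (hs : ∀ e ∈ D, Commute d e → Commute v e) :
    d = v := by
  classical
  refine h.vRel_eq hd hv fun e he => ⟨fun hve => ?_, hs e he⟩
  have hset : ∀ u ∈ D, {e | e ∈ D ∧ Commute u e} = insert u (adj D u) := by
    intro u hu; ext z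
    constructor
    · rintro ⟨hz, hc⟩
      rcases eq_or_ne z u with rfl | hne
      exacts [Or.inl rfl, Or.inr ⟨hz, hne, hc⟩]
    · rintro (rfl | hz)
      exacts [⟨hu, Commute.refl _⟩, ⟨hz.1, hz.2.2⟩]
  have hcard : ({e | e ∈ D ∧ Commute v e}).ncard ≤ ({e | e ∈ D ∧ Commute d e}).ncard := by
    rw [hset v hv, hset d hd, Set.ncard_insert_of_notMem (fun hm => hm.2.1 rfl),
      Set.ncard_insert_of_notMem (fun hm => hm.2.1 rfl), ncard_adj_eq h.cls hv hd]
  have heq := Set.eq_of_subset_of_ncard_le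
    (fun z (hz : z ∈ {e | e ∈ D ∧ Commute d e}) => (⟨hz.1, hs z hz.1 hz.2⟩ : z ∈ {e | e ∈ D ∧ Commute v e}))
    hcard (Set.toFinite _)
  exact ((heq.symm ▸ (⟨he, hve⟩ : e ∈ {e | e ∈ D ∧ Commute v e})) : e ∈ {e | e ∈ D ∧ Commute d e}).2

variable {a b : G} (ha : a ∈ D) (hb : b ∈ D) (hne : a ≠ b) (hab : Commute a b)
include ha hb hne hab

theorem line_pts {e e' : G} (he : e ∈ pts D a b) (he' : e' ∈ pts D a b) (hee : e ≠ e') :
    line D e e' = line D a b := by
  refine (Set.eq_of_subset_of_ncard_le (line_sub_pts he he') ?_ (Set.toFinite _)).symm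
  rw [ncard_line_eq h.rad h.cls he.1.1 he'.1.1 ha hb (pts_commute he he') hab hee hne]

theorem pts_eq {e e' : G} (he : e ∈ pts D a b) (he' : e' ∈ pts D a b) (hee : e ≠ e') :
    pts D e e' = pts D a b := by
  have hl := h.line_pts ha hb hne hab he he' hee
  have key : ∀ {u v : G}, u ∈ pts D a b → v ∈ pts D a b → u ≠ v → v ∈ pts D e e' →
      u ∈ pts D e e' → ∀ z ∈ pts D e e', u ≠ z → line D u z = line D e e' := by
    intro u v hu hv huv _ hu' z hz huz
    exact h.line_pts he.1.1 he'.1.1 hee (pts_commute he he') hu' hz huz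
  have hfwd : ∀ z ∈ pts D a b, z ∈ pts D e e' := by
    intro z hz
    refine ⟨hl.symm ▸ hz.1, ?_⟩
    rcases eq_or_ne z e with rfl | hze
    · exact Or.inl rfl
    · exact Or.inr (by rw [h.line_pts ha hb hne hab he hz hze.symm, hl])
  ext z
  refine ⟨fun hz => ⟨hl ▸ hz.1, ?_⟩, hfwd z⟩
  rcases eq_or_ne z a with rfl | hza
  · exact Or.inl rfl
  · refine Or.inr ?_
    rw [key (left_mem_pts ha hab) (right_mem_pts hb hab) hne (hfwd b (right_mem_pts hb hab))
      (hfwd a (left_mem_pts ha hab)) z hz hza.symm, hl]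

theorem commute_all {w e e' : G} (hw : w ∈ D) (he : e ∈ pts D a b) (he' : e' ∈ pts D a b)
    (hee : e ≠ e') (h1 : Commute w e) (h2 : Commute w e') {z : G} (hz : z ∈ pts D a b) :
    Commute w z := by
  have hm : w ∈ line D a b := h.line_pts ha hb hne hab he he' hee ▸ (⟨hw, h1, h2⟩ : w ∈ line D e e')
  exact (line_sub_pts hz hz hm).2.1

theorem third : ∃ v ∈ pts D a b, v ≠ a ∧ v ≠ b := by
  have hb' : b ∈ adj D a := ⟨hb, hne.symm, hab⟩
  have hcl := loc_class h.cls h.cores ha ⟨b, hb'⟩
  obtain ⟨v, hv, hvb, hvR⟩ := exists_pair_of_not_central hcl (h.o2 a ha) (loc_mem hb')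
  have hV := vRel_of_mem_pCore_two hcl.1 (loc_mem hb') hv hvR
  have hne' : (v : G) ≠ b := fun e => hvb (Subtype.ext e)
  have e1 : line D a b = line D a v := line_eq_of_loc_vRel hb' hv hV
  exact ⟨v, ⟨e1.symm ▸ ⟨hv.1, hv.2.2.symm, Commute.refl _⟩, Or.inr e1.symm⟩, hv.2.1, hne'⟩

omit ha hb hne in
/-- The product of two conjugates swapping `a` and `b`. -/
theorem swap_aux {w : G} (hw : w ∈ D) (haD : a ∈ D) (hbD : b ∈ D) (hwa : ¬ Commute w a)
    (hwb : ¬ Commute w b) :
    (a * w * a * (b * w * b)) * a * (a * w * a * (b * w * b))⁻¹ = b ∧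
      Commute (a * w * a) (b * w * b) := by
  have hD := h.set
  have ia := inv_eq hD haD
  have ib := inv_eq hD hbD
  have iw := inv_eq hD hw
  have hA := braid hD hw haD hwa
  have hB := braid hD hw hbD hwb
  constructor
  · have e1 : b * w * b * a * (b * w * b) = a * b * w * b * a := by
      calc b * w * b * a * (b * w * b) = b * w * (a * b) * b * w * b := by
            rw [hab.eq]; simp only [mul_assoc]
        _ = b * (w * a * w) * b := by simp only [mul_assoc, mul_self_cancel hD hbD]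
        _ = (b * a) * w * (a * b) := by rw [hA]; simp only [mul_assoc]
        _ = a * b * w * b * a := by
            conv_lhs => rw [← hab.eq]
            simp only [mul_assoc]; rw [hab.eq]
    calc (a * w * a * (b * w * b)) * a * (a * w * a * (b * w * b))⁻¹
        = a * w * a * (b * w * b * a * (b * w * b)) * (a * w * a) := by
          simp only [mul_inv_rev, ia, ib, iw, mul_assoc]
      _ = a * (w * (b * w * b) * w) * a := by
          rw [e1]; simp only [mul_assoc, mul_self_cancel hD haD]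
      _ = a * b * a := by
          rw [← hB]; simp only [mul_assoc, mul_self hD hw, mul_one, mul_self_cancel hD hw]
      _ = b := conj_conj_of_commute hD haD hab
  · have h1 := cmap w hab
    rwa [iw, hA, hB] at h1

/-- The involution moving the remaining points of the line. -/
theorem mate {w v : G} (hw : w ∈ D) (hv : v ∈ pts D a b) (hva : v ≠ a) (hvb : v ≠ b)
    (hwa : ¬ Commute w a) (hwb : ¬ Commute w b) (hwv : ¬ Commute w v) :
    (a * w * a * (b * w * b)) * v * (a * w * a * (b * w * b))⁻¹ ∈ pts D a b ∧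
    (a * w * a * (b * w * b)) * v * (a * w * a * (b * w * b))⁻¹ ∉ ({a, b, v} : Set G) ∧
    w * (a * b * v) * w * (w * (a * b * v))⁻¹ =
      (a * w * a * (b * w * b)) * v * (a * w * a * (b * w * b))⁻¹ := by
  have hD := h.set
  have ia := inv_eq hD ha
  have ib := inv_eq hD hb
  have iv := inv_eq hD hv.1.1
  have iw := inv_eq hD hw
  obtain ⟨hsa, hcomm⟩ := h.swap_aux hab hw ha hb hwa hwb
  set g := a * w * a * (b * w * b) with hg
  have hsb : g * b * g⁻¹ = a := by
    have := (h.swap_aux hab.symm hw hb ha hwb hwa).1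
    rwa [hg, hcomm.eq]
  have hform : w * (a * b * v) * w * (w * (a * b * v))⁻¹ = g * v * g⁻¹ := by
    have hA := braid hD hw ha hwa
    have hB := braid hD hw hb hwb
    have hV := braid hD hw hv.1.1 hwv
    symm
    calc g * v * g⁻¹ = (a * w * a) * (b * w * b) * v * (b * w * b) * (a * w * a) := by
          simp only [hg, mul_inv_rev, ia, ib, iw, mul_assoc]
      _ = (w * a * w) * (w * b * w) * v * (w * b * w) * (w * a * w) := by rw [hA, hB]
      _ = w * a * b * (w * v * w) * b * a * w := by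
          simp only [mul_assoc, mul_self_cancel hD hw]
      _ = w * (a * b * v) * w * (w * (a * b * v))⁻¹ := by
          rw [hV]; simp only [mul_inv_rev, ia, ib, iv, iw, mul_assoc]
  obtain ⟨hfD, ⟨hfa, hfna⟩, ⟨hfb, hfnb⟩, hfv, hfnv⟩ := fifth hD h.conj ha hb hv.1.1 hw hab
    hv.1.2.1.symm hv.1.2.2.symm hne hva.symm hvb.symm hwa hwb hwv hform.symm
  refine ⟨⟨⟨hfD, hfa, hfb⟩, Or.inr ?_⟩, ?_, hform⟩
  · have hav : line D a v = line D a b := hv.2.resolve_left hva
    have e1 : line D b (g * v * g⁻¹) = line D b a := by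
      have e2 := line_conj h.conj g a v
      have e3 := line_conj h.conj g a b
      rw [hsa, hsb] at e3
      rw [hsa] at e2
      rw [e2, hav, ← e3]
    have hm : g * v * g⁻¹ ∈ pts D b a := ⟨⟨hfD, hfb, hfa⟩, Or.inr e1⟩
    rw [h.line_pts hb ha hne.symm hab.symm (right_mem_pts ha hab.symm) hm hfna.symm, line_comm]
  · simp [hfna, hfnb, hfnv]

theorem mate_mate {w v : G} (hw : w ∈ D) (hwa : ¬ Commute w a) (hwb : ¬ Commute w b) :
    (a * w * a * (b * w * b)) * ((a * w * a * (b * w * b)) * v * (a * w * a * (b * w * b))⁻¹) *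
      (a * w * a * (b * w * b))⁻¹ = v := by
  have hD := h.set
  obtain ⟨-, hcomm⟩ := h.swap_aux hab hw ha hb hwa hwb
  have h2 : a * w * a * (b * w * b) * (a * w * a * (b * w * b)) = 1 := by
    calc a * w * a * (b * w * b) * (a * w * a * (b * w * b))
        = a * w * a * ((b * w * b) * (a * w * a)) * (b * w * b) := by simp only [mul_assoc]
      _ = (a * w * a * (a * w * a)) * ((b * w * b) * (b * w * b)) := by
          rw [← hcomm.eq]; simp only [mul_assoc]
      _ = 1 := by
          rw [mul_self hD (h.conj_mem' ha hw), mul_self hD (h.conj_mem' hb hw), one_mul]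
  rw [inv_eq_of_mul_eq_one_left h2]
  calc _ = (a * w * a * (b * w * b) * (a * w * a * (b * w * b))) * v *
      ((a * w * a * (b * w * b)) * (a * w * a * (b * w * b))) := by simp only [mul_assoc]
    _ = v := by rw [h2, one_mul, mul_one]

theorem even_of_none {w : G} (hw : w ∈ D) (h0 : ∀ z ∈ pts D a b, ¬ Commute w z) :
    Even (pts D a b).ncard := by
  classical
  have hwa := h0 a (left_mem_pts ha hab)
  have hwb := h0 b (right_mem_pts hb hab)
  have hsub : ({a, b} : Set G) ⊆ pts D a b := by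
    rintro z (rfl | rfl)
    exacts [left_mem_pts ha hab, right_mem_pts hb hab]
  have hev := even_ncard (S := pts D a b \ {a, b}) (Set.toFinite _)
    (fun v => (a * w * a * (b * w * b)) * v * (a * w * a * (b * w * b))⁻¹)
    (fun v hv => ?_) (fun v hv => ?_) (fun v hv => h.mate_mate ha hb hne hab hw hwa hwb)
  · have h1 := Set.ncard_sdiff_add_ncard_of_subset hsub (Set.toFinite _)
    rw [Set.ncard_pair hne] at h1
    rw [← h1]
    exact hev.add even_two
  · simp only [Set.mem_diff, Set.mem_insert_iff, Set.mem_singleton_iff, not_or] at hv ⊢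
    obtain ⟨h1, h2, -⟩ := h.mate ha hb hne hab hw hv.1 hv.2.1 hv.2.2 hwa hwb (h0 v hv.1)
    simp only [Set.mem_insert_iff, Set.mem_singleton_iff, not_or] at h2
    exact ⟨h1, h2.1, h2.2.1⟩
  · simp only [Set.mem_diff, Set.mem_insert_iff, Set.mem_singleton_iff, not_or] at hv
    obtain ⟨-, h2, -⟩ := h.mate ha hb hne hab hw hv.1 hv.2.1 hv.2.2 hwa hwb (h0 v hv.1)
    simp only [Set.mem_insert_iff, Set.mem_singleton_iff, not_or] at h2
    exact h2.2.2

/-- With `w` commuting exactly with `p`, the mate is not `p`. -/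
theorem mate_ne {w v p : G} (hw : w ∈ D) (hp : p ∈ pts D a b) (hwp : Commute w p) (hne' : w ≠ p)
    (hv : v ∈ pts D a b) : w * (a * b * v) * w * (w * (a * b * v))⁻¹ ≠ p := by
  intro e
  apply hne'
  have hgp : Commute (a * b * v) p := ((pts_commute (left_mem_pts ha hab) hp).mul_left
    (pts_commute (right_mem_pts hb hab) hp)).mul_left (pts_commute hv hp)
  set g := a * b * v
  have e1 : g * w * g⁻¹ = p := by
    have e2 := congrArg (fun x => w⁻¹ * x * w) e
    simp only [mul_inv_rev, mul_assoc, inv_mul_cancel_left, inv_mul_cancel, mul_one] at e2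
    rw [mul_assoc, e2, inv_eq h.set hw, ← mul_assoc, conj_conj_of_commute h.set hw hwp]
  calc w = g⁻¹ * (g * w * g⁻¹) * g := by group
    _ = g⁻¹ * p * g := by rw [e1]
    _ = p := by rw [mul_assoc, ← hgp.eq, inv_mul_cancel_left]

theorem odd_of_one {w p : G} (hw : w ∈ D) (hp : p ∈ pts D a b) (hwp : Commute w p)
    (h1 : ∀ z ∈ pts D a b, z ≠ p → ¬ Commute w z) : Odd (pts D a b).ncard := by
  classical
  have hwp' : w ≠ p := by
    rintro rfl
    obtain ⟨v, hv, hva, hvb⟩ := h.third ha hb hne hab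
    rcases eq_or_ne a w with e | e
    · exact h1 b (right_mem_pts hb hab) (fun e' => hne (e.trans e'.symm))
        (pts_commute hp (right_mem_pts hb hab))
    · exact h1 a (left_mem_pts ha hab) e (pts_commute hp (left_mem_pts ha hab))
  -- two further points on the line
  obtain ⟨a', b', ha', hb', hab', hap, hbp⟩ : ∃ a' b', a' ∈ pts D a b ∧ b' ∈ pts D a b ∧ a' ≠ b' ∧
      a' ≠ p ∧ b' ≠ p := by
    obtain ⟨v, hv, hva, hvb⟩ := h.third ha hb hne hab
    rcases eq_or_ne a p with e | e
    · exact ⟨b, v, right_mem_pts hb hab, hv, hvb.symm, fun e' => hne (e.trans e'.symm),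
        fun e' => hva (e'.trans e.symm)⟩
    · rcases eq_or_ne b p with e2 | e2
      · exact ⟨a, v, left_mem_pts ha hab, hv, hva.symm, e, fun e' => hvb (e'.trans e2.symm)⟩
      · exact ⟨a, b, left_mem_pts ha hab, right_mem_pts hb hab, hne, e, e2⟩
  have heq := h.pts_eq ha hb hne hab ha' hb' hab'
  have hc' := pts_commute ha' hb'
  rw [← heq] at hp h1 ⊢
  have ha'D := ha'.1.1
  have hb'D := hb'.1.1
  have hwa := h1 a' (left_mem_pts ha'D hc') hap
  have hwb := h1 b' (right_mem_pts hb'D hc') hbp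
  have hsub : ({a', b', p} : Set G) ⊆ pts D a' b' := by
    rintro z (rfl | rfl | rfl)
    exacts [left_mem_pts ha'D hc', right_mem_pts hb'D hc', hp]
  have hev := even_ncard (S := pts D a' b' \ {a', b', p}) (Set.toFinite _)
    (fun v => (a' * w * a' * (b' * w * b')) * v * (a' * w * a' * (b' * w * b'))⁻¹)
    (fun v hv => ?_) (fun v hv => ?_)
    (fun v hv => h.mate_mate ha'D hb'D hab' hc' hw hwa hwb)
  · have h2 := Set.ncard_sdiff_add_ncard_of_subset hsub (Set.toFinite _)
    rw [Set.ncard_insert_of_notMem (by simp [hab', hap]), Set.ncard_pair hbp] at h2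
    rw [← h2]
    exact hev.add_odd (by decide)
  · simp only [Set.mem_diff, Set.mem_insert_iff, Set.mem_singleton_iff, not_or] at hv ⊢
    obtain ⟨m1, m2, m3⟩ := h.mate ha'D hb'D hab' hc' hw hv.1 hv.2.1 hv.2.2.1 hwa hwb
      (h1 v hv.1 hv.2.2.2)
    simp only [Set.mem_insert_iff, Set.mem_singleton_iff, not_or] at m2
    exact ⟨m1, m2.1, m2.2.1, m3 ▸ h.mate_ne ha'D hb'D hab' hc' hw hp hwp hwp' hv.1⟩
  · simp only [Set.mem_diff, Set.mem_insert_iff, Set.mem_singleton_iff, not_or] at hv
    obtain ⟨-, m2, -⟩ := h.mate ha'D hb'D hab' hc' hw hv.1 hv.2.1 hv.2.2.1 hwa hwb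
      (h1 v hv.1 hv.2.2.2)
    simp only [Set.mem_insert_iff, Set.mem_singleton_iff, not_or] at m2
    exact m2.2.2

/-- Every member commutes with some point of every line. -/
theorem hit {w : G} (hw : w ∈ D) : ∃ p ∈ pts D a b, Commute w p := by
  by_contra hno
  push Not at hno
  have hev := h.even_of_none ha hb hne hab hw hno
  apply hne
  have key : ∀ t ∈ D, Commute t a ↔ Commute t b := by
    intro t ht
    have hall : ∀ p ∈ pts D a b, Commute t p → ∀ z ∈ pts D a b, Commute t z := by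
      intro p hp htp
      by_contra hcon
      refine (Nat.not_odd_iff_even.2 hev) (h.odd_of_one ha hb hne hab ht hp htp fun z hz hzp htz => ?_)
      exact hcon fun u hu => h.commute_all ha hb hne hab ht hp hz hzp.symm htp htz hu
    exact ⟨fun hc => hall a (left_mem_pts ha hab) hc b (right_mem_pts hb hab),
      fun hc => hall b (right_mem_pts hb hab) hc a (left_mem_pts ha hab)⟩
  exact h.vRel_eq ha hb fun e he => ⟨fun hc => ((key e he).2 hc.symm).symm,
    fun hc => ((key e he).1 hc.symm).symm⟩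

end Pre

namespace Pre

variable (h : Pre D) [Finite G]
include h

theorem hit_unique {a b w p q : G} (ha : a ∈ D) (hb : b ∈ D) (hne : a ≠ b) (hab : Commute a b)
    (hw : w ∈ D) (hp : p ∈ pts D a b) (hq : q ∈ pts D a b) (h1 : Commute w p) (h2 : Commute w q)
    (hn : ∃ z ∈ pts D a b, ¬ Commute w z) : p = q := by
  by_contra hpq
  obtain ⟨z, hz, hzw⟩ := hn
  exact hzw (h.commute_all ha hb hne hab hw hp hq hpq h1 h2 hz)

theorem exists_off {a b : G} (ha : a ∈ D) (hb : b ∈ D) (hne : a ≠ b) :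
    ∃ c ∈ D, Commute c a ∧ ¬ Commute c b := by
  by_contra hcon
  push Not at hcon
  exact hne (h.eq_of_sub ha hb fun e he hc => (hcon e he hc.symm).symm)

theorem exists_common {a w : G} (ha : a ∈ D) (hw : w ∈ D) (haw : ¬ Commute a w) :
    (line D a w).Nonempty := by
  obtain ⟨e, he⟩ := h.adj_ne a ha
  obtain ⟨p, hp, hwp⟩ := h.hit ha he.1 he.2.1.symm he.2.2 hw
  exact ⟨p, hp.1.1, hp.1.2.1, hwp.symm⟩

/-- The common neighbours of two non-commuting members have no point commuting with all others. -/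
theorem nondeg {a w p : G} (ha : a ∈ D) (hw : w ∈ D) (haw : ¬ Commute a w) (hp : p ∈ line D a w) :
    ∃ p' ∈ line D a w, ¬ Commute p' p := by
  by_contra hcon
  push Not at hcon
  apply haw
  have hap : a = p := by
    refine h.eq_of_sub ha hp.1 fun e he hae => ?_
    rcases eq_or_ne e a with rfl | hea
    · exact hp.2.1
    obtain ⟨q, hq, hwq⟩ := h.hit ha he hea.symm hae hw
    have hqa : q ≠ a := fun e' => haw (e' ▸ hwq).symm
    exact h.commute_all ha he hea.symm hae hp.1 (left_mem_pts ha hae) hq hqa.symm hp.2.1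
      (hcon q ⟨hq.1.1, hq.1.2.1, hwq.symm⟩).symm (right_mem_pts he hae)
  exact hap ▸ hp.2.2

theorem ncard_line_nc {a w a' w' : G} (ha : a ∈ D) (hw : w ∈ D) (haw : ¬ Commute a w)
    (ha' : a' ∈ D) (hw' : w' ∈ D) (haw' : ¬ Commute a' w') :
    (line D a w).ncard = (line D a' w').ncard := by
  obtain ⟨g, hg⟩ := class_conj h.cls ha ha'
  have h1 : ¬ Commute a' (g * w * g⁻¹) := fun hc => haw (of_cmap g (hg.symm ▸ hc))
  obtain ⟨g', hg', hg''⟩ := noncommuting_transitive_of_centralCores h.cls h.cores h.conn ha'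
    (h.conj g w hw) hw' h1 haw'
  have e : line D a' w' = line D (g' * g * a * (g' * g)⁻¹) (g' * g * w * (g' * g)⁻¹) := by
    congr 1
    · calc a' = g' * a' * g'⁻¹ := (conj_fix hg').symm
        _ = _ := by rw [← hg]; group
    · rw [← hg'']; group
  rw [e, line_conj h.conj, Set.ncard_image_of_injective _
    fun u v e => mul_left_cancel (mul_right_cancel e)]

end Pre

end Cfsg.Agent.ThreeTrans.Polar
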