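/-
A singular line has three or five points; five of them multiply to one.

Main results: `Pre.five`, `Pre.pts_size`, `Pre.ncard_pts_eq`, `Pre.prod_five`.
-/
import Cfsg.Agent.Lib.ThreeTrans.Polar.Basic

set_option autoImplicit false

namespace Cfsg.Agent.ThreeTrans.Polar

open Cfsg Cfsg.Agent.ThreeTransRank Cfsg.Agent.ThreeTrans
open Cfsg.Agent.ThreeTrans.SolvLocal (line loc loc_mem line_eq_of_loc_vRel ncard_line_eq cmap
  of_cmap conj_fix commute_of_fix)

variable {G : Type*} [Group G] {D : Set G}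

/-- `w` commutes with `p` and with no other point of the line. -/
def Only (D : Set G) (a b w p : G) : Prop :=
  w ∈ D ∧ Commute w p ∧ ∀ z ∈ pts D a b, z ≠ p → ¬ Commute w z

theorem pts_conj (hconj : ∀ g : G, ∀ d ∈ D, g * d * g⁻¹ ∈ D) (g a b : G) :
    pts D (g * a * g⁻¹) (g * b * g⁻¹) = (fun e => g * e * g⁻¹) '' pts D a b := by
  have inj : Function.Injective fun e => g * e * g⁻¹ :=
    fun u v e => mul_left_cancel (mul_right_cancel e)
  ext e
  constructor
  · rintro ⟨he, he'⟩
    rw [line_conj hconj] at he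
    obtain ⟨u, hu, rfl⟩ := he
    refine ⟨u, ⟨hu, he'.imp (fun e => inj e) fun e => ?_⟩, rfl⟩
    rw [line_conj hconj, line_conj hconj] at e
    exact inj.image_injective e
  · rintro ⟨u, ⟨hu, hu'⟩, rfl⟩
    refine ⟨?_, hu'.imp (fun e => by rw [e]) fun e => ?_⟩
    · rw [line_conj hconj]; exact ⟨u, hu, rfl⟩
    · rw [line_conj hconj, line_conj hconj, e]

namespace Pre

variable (h : Pre D) [Finite G]
include h

theorem ncard_pts_eq {a b a' b' : G} (ha : a ∈ D) (hb : b ∈ D) (hne : a ≠ b) (hab : Commute a b)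
    (ha' : a' ∈ D) (hb' : b' ∈ D) (hne' : a' ≠ b') (hab' : Commute a' b') :
    (pts D a b).ncard = (pts D a' b').ncard := by
  obtain ⟨g, rfl, rfl⟩ := pair_transitive h.rad h.cls ha hb ha' hb' hab hab' hne hne'
  rw [pts_conj h.conj, Set.ncard_image_of_injective _
    fun u v e => mul_left_cancel (mul_right_cancel e)]

/-- Two points of a line move a member inside its line with the hit. -/
theorem move {a b m n q u : G} (ha : a ∈ D) (hb : b ∈ D) (hne : a ≠ b) (hab : Commute a b)
    (hm : m ∈ pts D a b) (hn : n ∈ pts D a b) (hq : q ∈ pts D a b) (hmq : m ≠ q) (hnq : n ≠ q)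
    (hu : u ∈ D) (huq : Commute u q) (hu' : u ≠ q) :
    m * n * u * (m * n)⁻¹ ∈ pts D u q := by
  have hqD := hq.1.1
  have am : m ∈ adj D q := ⟨hm.1.1, hmq, pts_commute hq hm⟩
  have an : n ∈ adj D q := ⟨hn.1.1, hnq, pts_commute hq hn⟩
  have au : u ∈ adj D q := ⟨hu, hu', huq.symm⟩
  have hcl := loc_class h.cls h.cores hqD ⟨m, am⟩
  have hV : VRel (locSet D q) (loc am) (loc an) := by
    intro e he
    rw [commute_coe_iff, commute_coe_iff]
    constructor
    · intro hc
      exact (h.commute_all ha hb hne hab he.1 hq hn hnq.symm he.2.2.symm hc.symm hm).symm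
    · intro hc
      exact (h.commute_all ha hb hne hab he.1 hq hm hmq.symm he.2.2.symm hc.symm hn).symm
  have hconjK := (group_of_class hcl).2.1
  have hmem := mul_mem_pCore_two_of_vRel hcl.1 hconjK (loc_mem am) (loc_mem an) hV
  have hV2 := vRel_of_mem_pCore_two hcl.1 (loc_mem au) (hconjK _ _ (loc_mem au))
    (inv_mul_conj_mem (d := loc au) hmem)
  have hmn : Commute (m * n) q := (pts_commute hm hq).mul_left (pts_commute hn hq)
  have au2 : m * n * u * (m * n)⁻¹ ∈ adj D q := hconjK (loc am * loc an) (loc au) (loc_mem au)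
  have hline : line D q u = line D q (m * n * u * (m * n)⁻¹) := line_eq_of_loc_vRel au au2 hV2
  have hu2 : m * n * u * (m * n)⁻¹ ∈ pts D q u := by
    refine ⟨⟨au2.1, au2.2.2.symm, ?_⟩, Or.inr hline.symm⟩
    exact (hline ▸ (⟨hu, huq, Commute.refl u⟩ : u ∈ line D q u) :
      u ∈ line D q (m * n * u * (m * n)⁻¹)).2.2.symm
  rwa [h.pts_eq hqD hu hu'.symm huq.symm (right_mem_pts hu huq.symm)
    (left_mem_pts hqD huq.symm) hu']

/-- The same for four points. -/
theorem move_four {a b m₁ m₂ m₃ m₄ q u : G} (ha : a ∈ D) (hb : b ∈ D) (hne : a ≠ b)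
    (hab : Commute a b) (h₁ : m₁ ∈ pts D a b) (h₂ : m₂ ∈ pts D a b) (h₃ : m₃ ∈ pts D a b)
    (h₄ : m₄ ∈ pts D a b) (hq : q ∈ pts D a b) (n₁ : m₁ ≠ q) (n₂ : m₂ ≠ q) (n₃ : m₃ ≠ q)
    (n₄ : m₄ ≠ q) (hu : u ∈ D) (huq : Commute u q) (hu' : u ≠ q) :
    m₁ * m₂ * m₃ * m₄ * u * (m₁ * m₂ * m₃ * m₄)⁻¹ ∈ pts D u q := by
  have hv := h.move ha hb hne hab h₃ h₄ hq n₃ n₄ hu huq hu'
  set v := m₃ * m₄ * u * (m₃ * m₄)⁻¹ with hvdef
  have hvq : Commute v q := pts_commute hv (right_mem_pts hq.1.1 huq)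
  have hv' : v ≠ q := by
    intro e
    apply hu'
    have hc : Commute (m₃ * m₄) q := (pts_commute h₃ hq).mul_left (pts_commute h₄ hq)
    rw [hvdef, ← conj_fix hc] at e
    exact mul_left_cancel (mul_right_cancel e)
  have := h.move ha hb hne hab h₁ h₂ hq n₁ n₂ hv.1.1 hvq hv'
  rw [h.pts_eq hu hq.1.1 hu' huq hv (right_mem_pts hq.1.1 huq) hv'] at this
  have e : m₁ * m₂ * m₃ * m₄ * u * (m₁ * m₂ * m₃ * m₄)⁻¹ = m₁ * m₂ * v * (m₁ * m₂)⁻¹ := by
    rw [hvdef]; group
  rwa [e]

theorem exists_only {a b p : G} (ha : a ∈ D) (hb : b ∈ D) (hne : a ≠ b) (hab : Commute a b)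
    (hp : p ∈ pts D a b) : ∃ w, Only D a b w p := by
  obtain ⟨q, hq, hqp⟩ : ∃ q ∈ pts D a b, q ≠ p := by
    rcases eq_or_ne a p with e | e
    · exact ⟨b, right_mem_pts hb hab, fun e' => hne (e.trans e'.symm)⟩
    · exact ⟨a, left_mem_pts ha hab, e⟩
  obtain ⟨w, hw, hwp, hwq⟩ := h.exists_off hp.1.1 hq.1.1 hqp.symm
  exact ⟨w, hw, hwp, fun z hz hzp hwz =>
    hwq (h.commute_all ha hb hne hab hw hz hp hzp hwz hwp hq)⟩

theorem only_of {a b w p z : G} (ha : a ∈ D) (hb : b ∈ D) (hne : a ≠ b) (hab : Commute a b)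
    (hw : w ∈ D) (hp : p ∈ pts D a b) (hwp : Commute w p) (hz : z ∈ pts D a b)
    (hwz : ¬ Commute w z) : Only D a b w p :=
  ⟨hw, hwp, fun u hu hup hwu => hwz (h.commute_all ha hb hne hab hw hu hp hup hwu hwp hz)⟩

theorem only_ne {a b w p : G} (ha : a ∈ D) (hb : b ∈ D) (hne : a ≠ b) (hab : Commute a b)
    (hp : p ∈ pts D a b) (ho : Only D a b w p) : w ≠ p := by
  rintro rfl
  rcases eq_or_ne a w with e | e
  · exact ho.2.2 b (right_mem_pts hb hab) (fun e' => hne (e.trans e'.symm))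
      (pts_commute hp (right_mem_pts hb hab))
  · exact ho.2.2 a (left_mem_pts ha hab) e (pts_commute hp (left_mem_pts ha hab))

/-- The mate of a triple. -/
theorem exists_mate {a b w p x y d : G} (ha : a ∈ D) (hb : b ∈ D) (hne : a ≠ b) (hab : Commute a b)
    (hp : p ∈ pts D a b) (ho : Only D a b w p) (hx : x ∈ pts D a b) (hy : y ∈ pts D a b)
    (hd : d ∈ pts D a b) (hxy : x ≠ y) (hxd : x ≠ d) (hyd : y ≠ d) (hxp : x ≠ p) (hyp : y ≠ p)
    (hdp : d ≠ p) :
    ∃ f ∈ pts D a b, f ≠ x ∧ f ≠ y ∧ f ≠ d ∧ f ≠ p ∧ Commute (x * y * d * f) w := by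
  have heq := h.pts_eq ha hb hne hab hx hy hxy
  have hwp' := h.only_ne ha hb hne hab hp ho
  obtain ⟨hw, hwp, hno⟩ := ho
  have hxy' := pts_commute hx hy
  rw [← heq] at hp hd hno ⊢
  have hxD := hx.1.1
  have hyD := hy.1.1
  have hx' := left_mem_pts (D := D) hxD hxy'
  have hy' := right_mem_pts (D := D) hyD hxy'
  obtain ⟨hf, hf', hform⟩ := h.mate hxD hyD hxy hxy' hw hd hxd.symm hyd.symm (hno x hx' hxp)
    (hno y hy' hyp) (hno d hd hdp)
  rw [← hform] at hf hf'
  have hfp := h.mate_ne hxD hyD hxy hxy' hw hp hwp hwp' hd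
  simp only [Set.mem_insert_iff, Set.mem_singleton_iff, not_or] at hf'
  refine ⟨_, hf, hf'.1, hf'.2.1, hf'.2.2, hfp, ?_⟩
  set g := x * y * d with hg
  set f := w * g * w * (w * g)⁻¹ with hfdef
  have hD := h.set
  have iw := inv_eq hD hw
  have hfc : w * f * w = g * w * g⁻¹ := by
    rw [hfdef]; simp only [mul_inv_rev, iw, mul_assoc, mul_self_cancel hD hw, mul_self hD hw, mul_one]
  rw [braid hD hw hf.1.1 (hno f hf hfp)] at hfc
  have hg2 : g * g = 1 := by
    have c1 : Commute (x * y) d := (pts_commute hx' hd).mul_left (pts_commute hy' hd)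
    calc g * g = x * y * (d * (x * y)) * d := by simp only [hg, mul_assoc]
      _ = x * (y * x) * y * (d * d) := by rw [← c1.eq]; simp only [mul_assoc]
      _ = 1 := by
          rw [← hxy'.eq, mul_self hD hd.1.1]
          simp only [mul_assoc, mul_self hD hyD, mul_one, mul_self hD hxD]
  apply commute_of_fix
  calc g * f * w * (g * f)⁻¹ = g * (f * w * f) * g⁻¹ := by
        rw [mul_inv_rev, inv_eq hD hf.1.1]; simp only [mul_assoc]
    _ = w := by
        rw [hfc, inv_eq_of_mul_eq_one_left hg2]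
        calc g * (g * w * g) * g = (g * g) * w * (g * g) := by simp only [mul_assoc]
          _ = w := by rw [hg2, one_mul, mul_one]

/-- Four points fix what the hit of a fixed member allows. -/
theorem fix_five {a b : G} (ha : a ∈ D) (hb : b ∈ D) (hne : a ≠ b) (hab : Commute a b)
    {v : Fin 5 → G} (hv : ∀ i, v i ∈ pts D a b) (hinj : Function.Injective v) {w : G}
    (ho : Only D a b w (v 4)) (hs : Commute (v 0 * v 1 * v 2 * v 3) w) :
    (∀ u q, q ∈ pts D a b → Only D a b u q → (∀ i, q ≠ v i) →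
      Commute (v 0 * v 1 * v 2 * v 3) u) ∧
    (∀ u i, Only D a b u (v i) → Commute (v 0 * v 1 * v 2 * v 3 * v 4) u) := by
  classical
  set s := v 0 * v 1 * v 2 * v 3 with hsdef
  set r := s * v 4 with hrdef
  set p := v 4 with hpdef
  have hD := h.set
  have hp := hv 4
  have cl := fun i j => pts_commute (hv i) (hv j)
  have hperm : ∀ l : List (Fin 5), l.Perm [0, 1, 2, 3, 4] → (l.map v).prod = r := by
    intro l hl
    have h5 := (hl.map v).prod_eq' (List.pairwise_of_forall_mem_list fun i hi j hj => by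
      obtain ⟨i', -, rfl⟩ := List.mem_map.1 hi
      obtain ⟨j', -, rfl⟩ := List.mem_map.1 hj
      exact cl i' j')
    rw [h5]
    simp [hrdef, hsdef, hpdef, mul_assoc]
  have fixq : ∀ {m q u : G}, Commute q u → (m * q) * u * (m * q)⁻¹ = m * u * m⁻¹ := by
    intro m q u hqu
    calc (m * q) * u * (m * q)⁻¹ = m * (q * u * q⁻¹) * m⁻¹ := by group
      _ = m * u * m⁻¹ := by rw [conj_fix hqu]
  -- the element used for a member with hit `q`
  have moveT : ∀ u q, q ∈ pts D a b → Only D a b u q →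
      ∃ t, (t = s ∨ t = r) ∧ t * u * t⁻¹ ∈ pts D u q ∧
        ((∀ i, q ≠ v i) → t = s) ∧ ((∃ i, q = v i) → t = r) := by
    intro u q hq hou
    have hu' := h.only_ne ha hb hne hab hq hou
    by_cases hex : ∃ i, q = v i
    · obtain ⟨i, rfl⟩ := hex
      refine ⟨r, Or.inr rfl, ?_, fun e => absurd rfl (e i), fun _ => rfl⟩
      have key : ∀ j₁ j₂ j₃ j₄ : Fin 5, ([j₁, j₂, j₃, j₄, i] : List (Fin 5)).Perm [0, 1, 2, 3, 4] →
          j₁ ≠ i → j₂ ≠ i → j₃ ≠ i → j₄ ≠ i → r * u * r⁻¹ ∈ pts D u (v i) := by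
        intro j₁ j₂ j₃ j₄ hl e1 e2 e3 e4
        rw [← hperm _ hl]
        simp only [List.map_cons, List.map_nil, List.prod_cons, List.prod_nil, mul_one, ← mul_assoc]
        rw [fixq hou.2.1.symm]
        exact h.move_four ha hb hne hab (hv _) (hv _) (hv _) (hv _) (hv i) (hinj.ne e1) (hinj.ne e2)
          (hinj.ne e3) (hinj.ne e4) hou.1 hou.2.1 hu'
      fin_cases i
      · exact key 1 2 3 4 (by decide) (by decide) (by decide) (by decide) (by decide)
      · exact key 0 2 3 4 (by decide) (by decide) (by decide) (by decide) (by decide)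
      · exact key 0 1 3 4 (by decide) (by decide) (by decide) (by decide) (by decide)
      · exact key 0 1 2 4 (by decide) (by decide) (by decide) (by decide) (by decide)
      · exact key 0 1 2 3 (by decide) (by decide) (by decide) (by decide) (by decide)
    · push Not at hex
      exact ⟨s, Or.inl rfl, h.move_four ha hb hne hab (hv 0) (hv 1) (hv 2) (hv 3) hq (hex 0).symm
        (hex 1).symm (hex 2).symm (hex 3).symm hou.1 hou.2.1 hu', fun _ => rfl,
        fun e => absurd e (by push Not; exact hex)⟩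
  have step : ∀ c e, Only D a b c p → Commute s c → e ∈ D → Only D a b e p → ¬ Commute e c →
      Commute s e := by
    intro c e hoc hsc he hoe hec
    obtain ⟨u, hu, hup⟩ := h.nondeg hoc.1 he (fun e' => hec e'.symm)
      (⟨hp.1.1, hoc.2.1.symm, hoe.2.1.symm⟩ : p ∈ line D c e)
    obtain ⟨q, hq, huq⟩ := h.hit ha hb hne hab hu.1
    have hou := h.only_of ha hb hne hab hu.1 hq huq hp hup
    have hqp : q ≠ p := fun e' => hup (e' ▸ huq)
    have huq' := h.only_ne ha hb hne hab hq hou
    obtain ⟨t, ht, htu, -, -⟩ := moveT u q hq hou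
    have htc : Commute t c := by
      rcases ht with rfl | rfl
      exacts [hsc, hsc.mul_left hoc.2.1.symm]
    have hfix : Commute t u := by
      apply commute_of_fix
      by_contra hne'
      have h4 : Commute c (t * u * t⁻¹) := by
        have := cmap t hu.2.1.symm
        rwa [conj_fix htc] at this
      exact hoc.2.2 q hq hqp (h.commute_all hu.1 hq.1.1 huq' huq hoc.1
        (left_mem_pts hu.1 huq) htu (Ne.symm hne') hu.2.1.symm h4 (right_mem_pts hq.1.1 huq))
    have hse : r * e * r⁻¹ = s * e * s⁻¹ := fixq hoe.2.1.symm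
    have hte : t * e * t⁻¹ = s * e * s⁻¹ := by rcases ht with rfl | rfl <;> [rfl; exact hse]
    have hmv : s * e * s⁻¹ ∈ pts D e p := h.move_four ha hb hne hab (hv 0) (hv 1) (hv 2) (hv 3) hp
      (hinj.ne (by decide)) (hinj.ne (by decide)) (hinj.ne (by decide)) (hinj.ne (by decide)) he
      hoe.2.1 (h.only_ne ha hb hne hab hp hoe)
    apply commute_of_fix
    by_contra hne'
    have h4 : Commute u (s * e * s⁻¹) := by
      have := cmap t hu.2.2
      rwa [conj_fix hfix, hte] at this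
    exact hup (h.commute_all he hp.1.1 (h.only_ne ha hb hne hab hp hoe) hoe.2.1 hu.1
      (left_mem_pts he hoe.2.1) hmv (Ne.symm hne') hu.2.2 h4 (right_mem_pts hp.1.1 hoe.2.1))
  have fixL : ∀ e ∈ D, (∀ z ∈ pts D a b, Commute e z) → Commute s e ∧ Commute r e := by
    intro e _ hall
    have h1 : ∀ i, Commute (v i) e := fun i => (hall _ (hv i)).symm
    have h2 : Commute s e := (((h1 0).mul_left (h1 1)).mul_left (h1 2)).mul_left (h1 3)
    exact ⟨h2, h2.mul_left (h1 4)⟩
  have fixP : ∀ e ∈ D, Commute e p → Commute s e ∧ Commute r e := by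
    intro e he hep
    suffices hse : Commute s e from ⟨hse, hse.mul_left hep.symm⟩
    by_cases hall : ∀ z ∈ pts D a b, Commute e z
    · exact (fixL e he hall).1
    push Not at hall
    obtain ⟨z, hz, hez⟩ := hall
    have hoe := h.only_of ha hb hne hab he hp hep hz hez
    by_cases hec : Commute e w
    · set x := v 0 with hxdef
      have hxp : x ≠ p := hinj.ne (by decide)
      have hwx : ¬ Commute w x := ho.2.2 x (hv 0) hxp
      set e0 := w * x * w with he0
      have m0 : e0 ∈ D := h.conj_mem' ho.1 (hv 0).1.1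
      have iw := inv_eq hD ho.1
      have h0p : Commute e0 p := (ho.2.1.mul_left (cl 0 4)).mul_left ho.2.1
      have hback : ∀ {y : G}, Commute y e0 → Commute (w * y * w) x := by
        intro y hy
        have := cmap w hy
        rwa [iw, he0, show w * (w * x * w) * w = x by
          simp only [mul_assoc, mul_self hD ho.1, mul_one, mul_self_cancel hD ho.1]] at this
      have h0w : ¬ Commute e0 w := fun e' => hwx (by
        simpa [mul_self hD ho.1] using hback e'.symm)
      have hxD : x ∈ D := (hv 0).1.1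
      have h0x : ¬ Commute e0 x := fun e' => hwx (by
        rw [he0, braid hD ho.1 hxD hwx] at e'
        have := cmap x e'
        rwa [inv_eq hD hxD, show x * (x * w * x) * x = w by
          simp only [mul_assoc, mul_self hD hxD, mul_one, mul_self_cancel hD hxD],
          show x * x * x = x by rw [mul_self hD hxD, one_mul]] at this)
      have ho0 := h.only_of ha hb hne hab m0 hp h0p (hv 0) h0x
      refine step e0 e ho0 (step w e0 ho hs m0 ho0 h0w) he hoe fun e' => ?_
      have h9 := hback e'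
      rw [conj_conj_of_commute hD ho.1 hec.symm] at h9
      exact hoe.2.2 x (hv 0) hxp h9
    · exact step w e ho hs he hoe hec
  have fixU : ∀ u q, q ∈ pts D a b → Only D a b u q →
      ((∀ i, q ≠ v i) → Commute s u) ∧ ((∃ i, q = v i) → Commute r u) := by
    intro u q hq hou
    obtain ⟨t, ht, htu, htS, htR⟩ := moveT u q hq hou
    suffices hfix : Commute t u from ⟨fun e => htS e ▸ hfix, fun e => htR e ▸ hfix⟩
    by_cases hqp : q = p
    · have h3 := fixP u hou.1 (hqp ▸ hou.2.1)
      rcases ht with rfl | rfl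
      exacts [h3.1, h3.2]
    have huq' := h.only_ne ha hb hne hab hq hou
    obtain ⟨z, hz, hzq⟩ := h.nondeg hou.1 hp.1.1 (hou.2.2 p hp (Ne.symm hqp))
      (⟨hq.1.1, hou.2.1.symm, pts_commute hq hp⟩ : q ∈ line D u p)
    have htz : Commute t z := by
      have h3 := fixP z hz.1 hz.2.2
      rcases ht with rfl | rfl
      exacts [h3.1, h3.2]
    apply commute_of_fix
    by_contra hne'
    have h4 : Commute z (t * u * t⁻¹) := by
      have := cmap t hz.2.1
      rwa [conj_fix htz] at this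
    exact hzq (h.commute_all hou.1 hq.1.1 huq' hou.2.1 hz.1 (left_mem_pts hou.1 hou.2.1) htu
      (Ne.symm hne') hz.2.1 h4 (right_mem_pts hq.1.1 hou.2.1))
  exact ⟨fun u q hq hou hno => (fixU u q hq hou).1 hno,
    fun u i hou => (fixU u (v i) (hv i) hou).2 ⟨i, rfl⟩⟩

/-- Four points of a line force five, with product one. -/
theorem five {a b x y d p : G} (ha : a ∈ D) (hb : b ∈ D) (hne : a ≠ b) (hab : Commute a b)
    (hx : x ∈ pts D a b) (hy : y ∈ pts D a b) (hd : d ∈ pts D a b) (hp : p ∈ pts D a b)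
    (hxy : x ≠ y) (hxd : x ≠ d) (hyd : y ≠ d) (hxp : x ≠ p) (hyp : y ≠ p) (hdp : d ≠ p) :
    ∃ f ∈ pts D a b, f ≠ x ∧ f ≠ y ∧ f ≠ d ∧ f ≠ p ∧
      (∀ z ∈ pts D a b, z = x ∨ z = y ∨ z = d ∨ z = f ∨ z = p) ∧ x * y * d * f * p = 1 := by
  classical
  obtain ⟨w, ho⟩ := h.exists_only ha hb hne hab hp
  obtain ⟨f, hf, f1, f2, f3, f4, hs⟩ :=
    h.exists_mate ha hb hne hab hp ho hx hy hd hxy hxd hyd hxp hyp hdp
  -- two quadruples
  have uniq : ∀ {f p w z w' f' : G}, p ∈ pts D a b → f ∈ pts D a b → f ≠ x → f ≠ y → f ≠ d →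
      f ≠ p → x ≠ p → y ≠ p → d ≠ p → Only D a b w p → Commute (x * y * d * f) w →
      z ∈ pts D a b → z ≠ x → z ≠ y → z ≠ d → z ≠ f → z ≠ p → Only D a b w' z →
      f' ∈ pts D a b → Commute (x * y * d * f') w' → f' = f := by
    intro f p w z w' f' hp hf f1 f2 f3 f4 hxp hyp hdp ho hs hz z1 z2 z3 z4 z5 ho' hf' hs'
    obtain ⟨h1, -⟩ := h.fix_five ha hb hne hab (v := ![x, y, d, f, p])
      (by intro i; fin_cases i <;> assumption)
      (by
        intro i j hij
        fin_cases i <;> fin_cases j <;>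
          simp_all [Ne.symm hxy, Ne.symm hxd, Ne.symm hyd, Ne.symm f1, Ne.symm f2, Ne.symm f3,
            Ne.symm f4, Ne.symm hxp, Ne.symm hyp, Ne.symm hdp]) ho hs
    have hsw : Commute (x * y * d * f) w' := h1 w' z hz ho' fun i => by fin_cases i <;> assumption
    by_contra hne'
    have hff : Commute (f * f') w' := by
      have := (hsw.inv_left.mul_left hs')
      rwa [show (x * y * d * f)⁻¹ * (x * y * d * f') = f⁻¹ * f' by group, inv_eq h.set hf.1.1] at this
    exact ho'.2.2 f hf z4.symm ((commute_mul_iff h.set hf.1.1 hf'.1.1 ho'.1 (Ne.symm hne')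
      (pts_commute hf hf')).1 hff.symm).1
  have hinj : Function.Injective ![x, y, d, f, p] := by
    intro i j hij
    fin_cases i <;> fin_cases j <;>
      simp_all [Ne.symm hxy, Ne.symm hxd, Ne.symm hyd, Ne.symm f1, Ne.symm f2, Ne.symm f3,
        Ne.symm f4, Ne.symm hxp, Ne.symm hyp, Ne.symm hdp]
  have hv : ∀ i, ![x, y, d, f, p] i ∈ pts D a b := by intro i; fin_cases i <;> assumption
  obtain ⟨-, h2⟩ := h.fix_five ha hb hne hab hv hinj ho hs
  -- every point is among the five
  have hall : ∀ z ∈ pts D a b, ∃ i, z = ![x, y, d, f, p] i := by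
    intro z hz
    by_contra hcon
    push Not at hcon
    obtain ⟨wf, hof⟩ := h.exists_only ha hb hne hab hf
    obtain ⟨g, hg, g1, g2, g3, g4, hsg⟩ :=
      h.exists_mate ha hb hne hab hf hof hx hy hd hxy hxd hyd f1.symm f2.symm f3.symm
    have hgp : g = p := by
      by_contra hgp
      exact g4 (uniq hf hg g1 g2 g3 g4 f1.symm f2.symm f3.symm hof hsg hp hxp.symm hyp.symm
        hdp.symm (Ne.symm hgp) f4.symm ho hf hs).symm
    obtain ⟨wz, hoz⟩ := h.exists_only ha hb hne hab hz
    obtain ⟨f', hf', -, -, -, -, hs'⟩ :=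
      h.exists_mate ha hb hne hab hz hoz hx hy hd hxy hxd hyd (hcon 0).symm (hcon 1).symm
        (hcon 2).symm
    have e1 := uniq hp hf f1 f2 f3 f4 hxp hyp hdp ho hs hz (hcon 0) (hcon 1) (hcon 2) (hcon 3)
      (hcon 4) hoz hf' hs'
    have e2 := uniq hf hg g1 g2 g3 g4 f1.symm f2.symm f3.symm hof hsg hz (hcon 0) (hcon 1)
      (hcon 2) (hgp ▸ hcon 4) (hcon 3) hoz hf' hs'
    exact f4 (e1.symm.trans (e2.trans hgp))
  refine ⟨f, hf, f1, f2, f3, f4, fun z hz => ?_, ?_⟩
  · obtain ⟨i, rfl⟩ := hall z hz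
    fin_cases i <;> simp
  have hcen : x * y * d * f * p ∈ Subgroup.center G := by
    refine commute_all_of_gen h.cls.2.2 fun u hu => ?_
    obtain ⟨q, hq, huq⟩ := h.hit ha hb hne hab hu
    by_cases hux : ∀ i, Commute u (![x, y, d, f, p] i)
    · have c : ∀ i, Commute u (![x, y, d, f, p] i) := hux
      exact ((((c 0).mul_right (c 1)).mul_right (c 2)).mul_right (c 3)).mul_right (c 4)
    · push Not at hux
      obtain ⟨j, hj⟩ := hux
      obtain ⟨i, rfl⟩ := hall q hq
      exact (h2 u i (h.only_of ha hb hne hab hu (hv i) huq (hv j) hj)).symm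
  rw [center_eq_bot_of_trivialRadical h.rad, Subgroup.mem_bot] at hcen
  exact hcen

/-- A line has three or five points. -/
theorem pts_size {a b : G} (ha : a ∈ D) (hb : b ∈ D) (hne : a ≠ b) (hab : Commute a b) :
    (pts D a b).ncard = 3 ∨ (pts D a b).ncard = 5 := by
  classical
  obtain ⟨e, he, hea, heb⟩ := h.third ha hb hne hab
  have ma := left_mem_pts (D := D) ha hab
  have mb := right_mem_pts (D := D) hb hab
  by_cases h4 : ∀ z ∈ pts D a b, z = a ∨ z = b ∨ z = e
  · left
    have hset : pts D a b = {a, b, e} := by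
      ext z
      refine ⟨fun hz => h4 z hz, ?_⟩
      rintro (rfl | rfl | rfl)
      exacts [ma, mb, he]
    rw [hset, Set.ncard_insert_of_notMem (by simp [hne, Ne.symm hea]),
      Set.ncard_pair (Ne.symm heb)]
  right
  push Not at h4
  obtain ⟨z, hz, z1, z2, z3⟩ := h4
  obtain ⟨f, hf, f1, f2, f3, f4, hall, -⟩ := h.five ha hb hne hab ma mb he hz hne hea.symm heb.symm
    z1.symm z2.symm z3.symm
  have hset : pts D a b = {a, b, e, f, z} := by
    ext t
    refine ⟨fun ht => hall t ht, ?_⟩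
    rintro (rfl | rfl | rfl | rfl | rfl)
    exacts [ma, mb, he, hf, hz]
  rw [hset, Set.ncard_insert_of_notMem (by simp [hne, Ne.symm hea, Ne.symm z1, Ne.symm f1]),
    Set.ncard_insert_of_notMem (by simp [Ne.symm heb, Ne.symm z2, Ne.symm f2]),
    Set.ncard_insert_of_notMem (by simp [Ne.symm z3, Ne.symm f3]), Set.ncard_pair f4]

/-- Five distinct points of a line multiply to one. -/
theorem prod_five {a b : G} (ha : a ∈ D) (hb : b ∈ D) (hne : a ≠ b) (hab : Commute a b)
    {v : Fin 5 → G} (hv : ∀ i, v i ∈ pts D a b) (hinj : Function.Injective v) :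
    v 0 * v 1 * v 2 * v 3 * v 4 = 1 := by
  obtain ⟨f, hf, -, -, -, -, hall, hprod⟩ := h.five ha hb hne hab (hv 0) (hv 1) (hv 2) (hv 4)
    (hinj.ne (by decide)) (hinj.ne (by decide)) (hinj.ne (by decide)) (hinj.ne (by decide))
    (hinj.ne (by decide)) (hinj.ne (by decide))
  rcases hall _ (hv 3) with e | e | e | e | e
  · exact absurd (hinj e) (by decide)
  · exact absurd (hinj e) (by decide)
  · exact absurd (hinj e) (by decide)
  · rw [e]; exact hprod
  · exact absurd (hinj e) (by decide)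

end Pre

end Cfsg.Agent.ThreeTrans.Polar
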