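/-
Three points on a line: the symplectic group over the field with two elements.

Main results: `Pre.equiv_sp`, `Pre.equiv_sp_image` (members go to transvections).
-/
import Cfsg.Agent.Lib.ThreeTrans.Polar.Five
import Cfsg.Agent.Lib.TransvGroup.Generation
import Cfsg.Agent.Lib.SympGeom.Iso
import Cfsg.Agent.Lib.Linear.AltObstruction
import Cfsg.Agent.Lib.FischerPolar.SpRank

set_option autoImplicit false

namespace Cfsg.Agent.ThreeTrans.Polar

open Cfsg Cfsg.Agent.ThreeTransRank Cfsg.Agent.ThreeTrans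
open Cfsg.Agent.ThreeTrans.SolvLocal (line cmap of_cmap conj_fix commute_of_fix)

variable {G : Type*} [Group G] {D : Set G}

/-- The row of the non-commutation matrix. -/
noncomputable def fv (D : Set G) (a : G) : ↥D → ZMod 2 := fun e => by
  classical exact if Commute a e then 0 else 1

theorem fv_comm {a b : G} (ha : a ∈ D) (hb : b ∈ D) : fv D a ⟨b, hb⟩ = fv D b ⟨a, ha⟩ := by
  by_cases h : Commute a b
  · simp [fv, h, h.symm]
  · simp [fv, h, show ¬ Commute b a from fun e => h e.symm]

theorem fv_add_eq_zero_iff {a b : G} (e : ↥D) :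
    fv D a e + fv D b e = 0 ↔ (Commute a e ↔ Commute b e) := by
  by_cases h1 : Commute a (e : G) <;> by_cases h2 : Commute b (e : G) <;>
    simp [fv, h1, h2] <;> decide

namespace Pre

variable (h : Pre D) [Finite G]
  (h3 : ∀ a ∈ D, ∀ b ∈ D, a ≠ b → Commute a b → (pts D a b).ncard = 3)

include h in
theorem fv_inj {a b : G} (ha : a ∈ D) (hb : b ∈ D) (he : fv D a = fv D b) : a = b := by
  refine h.vRel_eq ha hb fun e hmem => ?_
  have := congrFun he ⟨e, hmem⟩
  by_cases h1 : Commute a e <;> by_cases h2 : Commute b e <;> simp_all [fv]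

include h in
theorem fv_ne_zero {a : G} (ha : a ∈ D) : fv D a ≠ 0 := by
  intro he
  obtain ⟨e, hmem, hne⟩ := exists_not_commute h.cls h.two ha
  have := congrFun he ⟨e, hmem⟩
  simp [fv, hne] at this

include h h3

theorem pts_three {a b v : G} (ha : a ∈ D) (hb : b ∈ D) (hne : a ≠ b) (hab : Commute a b)
    (hv : v ∈ pts D a b) (hva : v ≠ a) (hvb : v ≠ b) :
    ∀ z ∈ pts D a b, z = a ∨ z = b ∨ z = v := by
  intro z hz
  by_contra hcon
  simp only [not_or] at hcon
  have hsub : ({a, b, v, z} : Set G) ⊆ pts D a b := by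
    rintro u (rfl | rfl | rfl | rfl)
    exacts [left_mem_pts ha hab, right_mem_pts hb hab, hv, hz]
  have h4 := Set.ncard_le_ncard hsub (Set.toFinite _)
  rw [h3 a ha b hb hne hab, Set.ncard_insert_of_notMem (by simp [hne, Ne.symm hva, Ne.symm hcon.1]),
    Set.ncard_insert_of_notMem (by simp [Ne.symm hvb, Ne.symm hcon.2.1]),
    Set.ncard_pair (Ne.symm hcon.2.2)] at h4
  omega

/-- `t` commuting with none of the three points of a hyperbolic line: impossible. -/
theorem not_none {a w t : G} (ha : a ∈ D) (hw : w ∈ D) (haw : ¬ Commute a w) (ht : t ∈ D)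
    (t1 : ¬ Commute t a) (t2 : ¬ Commute t w) : Commute t (w * a * w) := by
  have hD := h.set
  -- the common neighbours commute with `t`
  have key : ∀ {a w : G}, a ∈ D → w ∈ D → ¬ Commute a w → ¬ Commute t a → ¬ Commute t w →
      ¬ Commute t (w * a * w) → ∀ p ∈ line D a w, Commute t p ∧ ∃ q, q ∈ pts D a p ∧ q ≠ a ∧ q ≠ p ∧
        ¬ Commute q w ∧ ¬ Commute t q ∧ ¬ Commute t (w * q * w) := by
    intro a w ha hw haw t1 t2 t3 p hp
    have hap : a ≠ p := fun e => haw (e ▸ hp.2.2)
    obtain ⟨q, hq, hqa, hqp⟩ := h.third ha hp.1 hap hp.2.1.symm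
    have hall := h.pts_three h3 ha hp.1 hap hp.2.1.symm hq hqa hqp
    have hqw : ¬ Commute q w := fun e => haw
      (h.commute_all ha hp.1 hap hp.2.1.symm hw (right_mem_pts hp.1 hp.2.1.symm) hq (Ne.symm hqp)
        hp.2.2.symm e.symm (left_mem_pts ha hp.2.1.symm)).symm
    -- the conjugate line
    have e1 : w * a * w⁻¹ = w * a * w := by rw [inv_eq hD hw]
    have e2 : w * p * w⁻¹ = p := conj_fix hp.2.2.symm
    have hlq : w * q * w ∈ pts D (w * a * w) p := by
      have := pts_conj h.conj w a p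
      rw [e1, e2] at this
      rw [this]
      exact ⟨q, hq, by show w * q * w⁻¹ = _; rw [inv_eq hD hw]⟩
    have hc : w * a * w ∈ D := h.conj_mem' hw ha
    have hcp : Commute (w * a * w) p := by rw [← e1, ← e2]; exact cmap w hp.2.1.symm
    have hcne : w * a * w ≠ p := by
      rw [← e1]; intro e; rw [← e2] at e
      exact hap (mul_left_cancel (mul_right_cancel e))
    have hc' : w * q * w ≠ w * a * w := fun e => hqa (mul_left_cancel (mul_right_cancel e))
    have hc'' : w * q * w ≠ p := fun e => hqp (by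
      calc q = w * (w * q * w) * w := by
            simp only [mul_assoc, mul_self hD hw, mul_one, mul_self_cancel hD hw]
        _ = p := by rw [e, conj_conj_of_commute hD hw hp.2.2.symm])
    have hall' := h.pts_three h3 hc hp.1 hcne hcp hlq hc' hc''
    have htp : Commute t p := by
      by_contra htp
      obtain ⟨z, hz, htz⟩ := h.hit ha hp.1 hap hp.2.1.symm ht
      obtain ⟨z', hz', htz'⟩ := h.hit hc hp.1 hcne hcp ht
      have htq : Commute t q := by
        rcases hall z hz with rfl | rfl | rfl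
        exacts [absurd htz t1, absurd htz htp, htz]
      have htc : Commute t (w * q * w) := by
        rcases hall' z' hz' with rfl | rfl | rfl
        exacts [absurd htz' t3, absurd htz' htp, htz']
      have h9 : Commute t (q * w * q) := by rwa [← braid hD hw hq.1.1 fun e => hqw e.symm]
      have h10 := (htq.mul_right h9).mul_right htq
      rw [show q * (q * w * q) * q = w by
        simp only [mul_assoc, mul_self hD hq.1.1, mul_one, mul_self_cancel hD hq.1.1]] at h10
      exact t2 h10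
    refine ⟨htp, q, hq, hqa, hqp, hqw, fun e => t1 ?_, fun e => t3 ?_⟩
    · exact h.commute_all ha hp.1 hap hp.2.1.symm ht (right_mem_pts hp.1 hp.2.1.symm) hq (Ne.symm hqp)
        htp e (left_mem_pts ha hp.2.1.symm)
    · exact h.commute_all hc hp.1 hcne hcp ht (right_mem_pts hp.1 hcp) hlq (Ne.symm hc'') htp e
        (left_mem_pts hc hcp)
  by_contra t3
  obtain ⟨p, hp⟩ := h.exists_common ha hw haw
  obtain ⟨-, q, hq, hqa, hqp, hqw, tq, tc⟩ := key ha hw haw t1 t2 t3 p hp
  have sub : ∀ {a : G}, a ∈ D → ¬ Commute a w → ¬ Commute t a → ¬ Commute t (w * a * w) →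
      line D a w = line D t w := by
    intro a ha haw t1 t3
    refine Set.eq_of_subset_of_ncard_le
      (fun z hz => ⟨hz.1, (key ha hw haw t1 t2 t3 z hz).1.symm, hz.2.2⟩) ?_ (Set.toFinite _)
    rw [h.ncard_line_nc ht hw t2 ha hw haw]
  have heq : line D q w = line D a w := (sub hq.1.1 hqw tq tc).trans (sub ha haw t1 t3).symm
  obtain ⟨p', hp', hp'p⟩ := h.nondeg ha hw haw hp
  exact hp'p (h.commute_all ha hp.1 (fun e => haw (e ▸ hp.2.2)) hp.2.1.symm hp'.1
    (left_mem_pts ha hp.2.1.symm) hq hqa.symm hp'.2.1 (heq.symm ▸ hp' : p' ∈ line D q w).2.1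
    (right_mem_pts hp.1 hp.2.1.symm))

theorem sum_line {a b v : G} (ha : a ∈ D) (hb : b ∈ D) (hne : a ≠ b) (hab : Commute a b)
    (hv : v ∈ pts D a b) (hva : v ≠ a) (hvb : v ≠ b) : fv D v = fv D a + fv D b := by
  funext e
  obtain ⟨z, hz, hez⟩ := h.hit ha hb hne hab e.2
  have ma := left_mem_pts (D := D) ha hab
  have mb := right_mem_pts (D := D) hb hab
  have all := fun {x y : G} (hx : x ∈ pts D a b) (hy : y ∈ pts D a b) (hxy : x ≠ y)
    (h1 : Commute x (e : G)) (h2 : Commute y (e : G)) {u : G} (hu : u ∈ pts D a b) =>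
    (h.commute_all ha hb hne hab e.2 hx hy hxy h1.symm h2.symm hu).symm
  by_cases c1 : Commute a (e : G) <;> by_cases c2 : Commute b (e : G) <;>
    by_cases c3 : Commute v (e : G)
  all_goals first
    | (simp [fv, c1, c2, c3]; done)
    | (simp [fv, c1, c2, c3]; decide; done)
    | exact absurd (all ma mb hne c1 c2 hv) c3
    | exact absurd (all ma hv hva.symm c1 c3 mb) c2
    | exact absurd (all mb hv hvb.symm c2 c3 ma) c1
    | (rcases h.pts_three h3 ha hb hne hab hv hva hvb z hz with rfl | rfl | rfl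
       exacts [absurd hez.symm c1, absurd hez.symm c2, absurd hez.symm c3])

theorem sum_hyp {a w : G} (ha : a ∈ D) (hw : w ∈ D) (haw : ¬ Commute a w) :
    fv D (w * a * w) = fv D a + fv D w := by
  have hD := h.set
  funext e
  have e1 : a * (w * a * w) * a = w := by
    rw [← braid hD ha hw haw]
    simp only [mul_assoc, mul_self hD ha, mul_one, mul_self_cancel hD ha]
  have e2 : w * (w * a * w) * w = a := by
    simp only [mul_assoc, mul_self hD hw, mul_one, mul_self_cancel hD hw]
  have k1 : Commute a (e : G) → Commute w (e : G) → Commute (w * a * w) (e : G) :=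
    fun c1 c2 => (c2.mul_left c1).mul_left c2
  have k2 : Commute a (e : G) → Commute (w * a * w) (e : G) → Commute w (e : G) := fun c1 c3 => by
    rw [← e1]; exact (c1.mul_left c3).mul_left c1
  have k3 : Commute w (e : G) → Commute (w * a * w) (e : G) → Commute a (e : G) := fun c2 c3 => by
    rw [← e2]; exact (c2.mul_left c3).mul_left c2
  by_cases c1 : Commute a (e : G) <;> by_cases c2 : Commute w (e : G) <;>
    by_cases c3 : Commute (w * a * w) (e : G)
  all_goals first
    | (simp [fv, c1, c2, c3]; done)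
    | (simp [fv, c1, c2, c3]; decide; done)
    | exact absurd (k1 c1 c2) c3
    | exact absurd (k2 c1 c3) c2
    | exact absurd (k3 c2 c3) c1
    | exact absurd (h.not_none h3 ha hw haw e.2 (fun hh => c1 hh.symm) (fun hh => c2 hh.symm)).symm c3

theorem fv_conj_self {d e : G} (hd : d ∈ D) (he : e ∈ D) :
    fv D (d * e * d⁻¹) = fv D e + fv D d ⟨e, he⟩ • fv D d := by
  rw [inv_eq h.set hd]
  by_cases hc : Commute d e
  · rw [conj_conj_of_commute h.set hd hc]; simp [fv, hc]
  · rw [h.sum_hyp h3 he hd fun e' => hc e'.symm]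
    have : fv D d ⟨e, he⟩ = 1 := by simp [fv, hc]
    rw [this, one_smul]

/-- The natural module. -/
noncomputable def space : Submodule (ZMod 2) (↥D → ZMod 2) where
  carrier := {x | x = 0 ∨ ∃ a ∈ D, fv D a = x}
  zero_mem' := Or.inl rfl
  add_mem' := by
    rintro x y (rfl | ⟨a, ha, rfl⟩) hy
    · simpa using hy
    rcases hy with rfl | ⟨b, hb, rfl⟩
    · exact Or.inr ⟨a, ha, by simp⟩
    rcases eq_or_ne a b with rfl | hne
    · exact Or.inl (funext fun e => CharTwo.add_self_eq_zero _)
    by_cases hab : Commute a b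
    · obtain ⟨v, hv, hva, hvb⟩ := h.third ha hb hne hab
      exact Or.inr ⟨v, hv.1.1, h.sum_line h3 ha hb hne hab hv hva hvb⟩
    · exact Or.inr ⟨b * a * b, h.conj_mem' hb ha, h.sum_hyp h3 ha hb hab⟩
  smul_mem' := by
    intro c x hx
    obtain rfl | rfl : c = 0 ∨ c = 1 := by revert c; decide
    · exact Or.inl (zero_smul _ x)
    · rw [one_smul]; exact hx

theorem equiv_sp_image : ∃ m : ℕ, ∃ e : G ≃* Matrix.symplecticGroup (Fin m) (ZMod 2),
    e '' D = {g : Matrix.symplecticGroup (Fin m) (ZMod 2) |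
      ((g : Matrix (Fin m ⊕ Fin m) (Fin m ⊕ Fin m) (ZMod 2)) - 1).rank = 1} := by
  classical
  set V := h.space h3 with hV
  let vec : ↥D → V := fun a => ⟨fv D a, Or.inr ⟨a, a.2, rfl⟩⟩
  have hcases : ∀ x : V, x = 0 ∨ ∃ a : ↥D, vec a = x := by
    rintro ⟨x, rfl | ⟨a, ha, rfl⟩⟩
    exacts [Or.inl rfl, Or.inr ⟨⟨a, ha⟩, rfl⟩]
  let Bf : V → V → ZMod 2 := fun x y =>
    if hy : ∃ a : ↥D, vec a = y then (x : ↥D → ZMod 2) hy.choose else 0
  have hBv : ∀ (x : V) (a : ↥D), Bf x (vec a) = (x : ↥D → ZMod 2) a := by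
    intro x a
    have hy : ∃ b : ↥D, vec b = vec a := ⟨a, rfl⟩
    simp only [Bf, dif_pos hy]
    exact congrArg _ (Subtype.ext (h.fv_inj hy.choose.2 a.2 (congrArg Subtype.val hy.choose_spec)))
  have hB0 : ∀ x : V, Bf x 0 = 0 := by
    intro x
    rw [show Bf x 0 = 0 ↔ True from iff_true_intro ?_]
    · trivial
    simp only [Bf]
    rw [dif_neg]
    rintro ⟨a, ha⟩
    exact h.fv_ne_zero a.2 (congrArg Subtype.val ha)
  have hsymm : ∀ x y, Bf x y = Bf y x := by
    intro x y
    rcases hcases x with rfl | ⟨a, rfl⟩ <;> rcases hcases y with rfl | ⟨b, rfl⟩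
    · rfl
    · rw [hBv, hB0]; rfl
    · rw [hBv, hB0]; rfl
    · rw [hBv, hBv]; exact fv_comm a.2 b.2
  have hadd : ∀ x x' y, Bf (x + x') y = Bf x y + Bf x' y := by
    intro x x' y
    rcases hcases y with rfl | ⟨b, rfl⟩
    · simp [hB0]
    · rw [hBv, hBv, hBv]; rfl
  have hsmul : ∀ (c : ZMod 2) x y, Bf (c • x) y = c * Bf x y := by
    intro c x y
    rcases hcases y with rfl | ⟨b, rfl⟩
    · simp [hB0]
    · rw [hBv, hBv]; rfl
  let B : LinearMap.BilinForm (ZMod 2) V := LinearMap.mk₂ (ZMod 2) Bf hadd (by simpa using hsmul)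
    (fun x y y' => by rw [hsymm, hadd, hsymm y, hsymm y'])
    (fun c x y => by rw [hsymm, hsmul, hsymm y]; rfl)
  have hBB : ∀ x y, B x y = Bf x y := fun x y => rfl
  have halt : ∀ x, B x x = 0 := by
    intro x
    rcases hcases x with rfl | ⟨a, rfl⟩
    · simp
    · rw [hBB, hBv]; simp [vec, fv]
  have hnd : ∀ x, (∀ y, B x y = 0) → x = 0 := by
    intro x hx
    apply Subtype.ext
    funext a
    have := hx (vec a)
    rwa [hBB, hBv] at this
  -- the action
  let act : G → (↥D → ZMod 2) → (↥D → ZMod 2) := fun g x e =>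
    x ⟨g⁻¹ * e * g, by simpa using h.conj g⁻¹ e e.2⟩
  have hact : ∀ g a, act g (fv D a) = fv D (g * a * g⁻¹) := by
    intro g a
    funext e
    have : Commute a (g⁻¹ * (e : G) * g) ↔ Commute (g * a * g⁻¹) (e : G) := by
      constructor
      · intro hc; simpa [mul_assoc] using cmap g hc
      · intro hc; simpa [mul_assoc] using cmap g⁻¹ hc
    by_cases hc : Commute a (g⁻¹ * (e : G) * g)
    · simp [act, fv, hc, this.1 hc]
    · simp [act, fv, hc, show ¬ Commute (g * a * g⁻¹) (e : G) from fun e' => hc (this.2 e')]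
  have hmem : ∀ (g : G) (x : V), act g x ∈ V := by
    intro g x
    rcases hcases x with rfl | ⟨a, rfl⟩
    · exact V.zero_mem
    · show act g (fv D a) ∈ V
      rw [hact]; exact Or.inr ⟨_, h.conj g a a.2, rfl⟩
  have hactmul : ∀ g g' x, act (g * g') x = act g (act g' x) := by
    intro g g' x
    funext e
    simp only [act]
    congr 1
    exact Subtype.ext (by show _ = g'⁻¹ * (g⁻¹ * (e : G) * g) * g'; group)
  have hactone : ∀ x, act 1 x = x := by intro x; funext e; simp [act]
  let ρ : G →* (V ≃ₗ[ZMod 2] V) :=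
    { toFun := fun g =>
        { toFun := fun x => ⟨act g x, hmem g x⟩
          map_add' := fun x y => rfl
          map_smul' := fun c x => rfl
          invFun := fun x => ⟨act g⁻¹ x, hmem g⁻¹ x⟩
          left_inv := fun x => Subtype.ext (by
            show act g⁻¹ (act g x) = x; rw [← hactmul, inv_mul_cancel, hactone])
          right_inv := fun x => Subtype.ext (by
            show act g (act g⁻¹ x) = x; rw [← hactmul, mul_inv_cancel, hactone]) }
      map_one' := LinearEquiv.ext fun x => Subtype.ext (hactone _)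
      map_mul' := fun g g' => LinearEquiv.ext fun x => Subtype.ext (hactmul g g' _) }
  have hρv : ∀ g a, ρ g (vec a) = vec ⟨g * a * g⁻¹, h.conj g a a.2⟩ := fun g a =>
    Subtype.ext (hact g a)
  have hisom : ∀ g, ρ g ∈ SympGeom.isoGrp B := by
    intro g x y
    rcases hcases y with rfl | ⟨b, rfl⟩
    · simp
    · rw [hρv, hBB, hBB, hBv, hBv]
      show act g x _ = (x : ↥D → ZMod 2) b
      simp only [act]
      exact congrArg _ (Subtype.ext (by show g⁻¹ * (g * (b : G) * g⁻¹) * g = b; group))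
  let φ : G →* SympGeom.isoGrp B := ρ.codRestrict _ hisom
  have hinj : Function.Injective φ := by
    refine (injective_iff_map_eq_one φ).2 fun g hg => ?_
    have hcen : g ∈ Subgroup.center G := commute_all_of_gen h.cls.2.2 fun e he => by
      have h1 : ρ g = 1 := congrArg Subtype.val hg
      have h2 : vec ⟨g * e * g⁻¹, h.conj g e he⟩ = vec ⟨e, he⟩ := by
        rw [← hρv g ⟨e, he⟩, h1]; rfl
      exact (commute_of_fix (h.fv_inj (h.conj g e he) he (congrArg Subtype.val h2))).symm
    rwa [center_eq_bot_of_trivialRadical h.rad, Subgroup.mem_bot] at hcen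
  have hsurj : Function.Surjective φ := by
    intro f
    have hf : (f : V ≃ₗ[ZMod 2] V) ∈ ρ.range := by
      refine TransvGroup.sp_mem B halt ⟨fun x hx => hnd x hx, fun y hy => hnd y fun x => ?_⟩ ρ.range
        (fun a c => ?_) f.2
      · show Bf y x = 0
        rw [hsymm]; exact hy x
      rcases hcases a with rfl | ⟨d, rfl⟩
      · exact ⟨1, one_mem _, fun x => by simp⟩
      obtain rfl | rfl : c = 0 ∨ c = 1 := by revert c; decide
      · exact ⟨1, one_mem _, fun x => by simp⟩
      refine ⟨ρ d, ⟨d, rfl⟩, fun x => ?_⟩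
      rw [one_smul]
      rcases hcases x with rfl | ⟨e, rfl⟩
      · simp
      · rw [hρv]
        apply Subtype.ext
        show fv D (d * e * (d : G)⁻¹) = fv D e + (B (vec d) (vec e)) • fv D d
        rw [h.fv_conj_self h3 d.2 e.2, hBB, hBv]
    obtain ⟨g, hg⟩ := hf
    exact ⟨g, Subtype.ext hg⟩
  obtain ⟨m, hm⟩ := Linear.even_finrank_of_alt_nondeg _ B halt hnd rfl
  obtain ⟨ψ, hψ⟩ := FischerPolar.exists_sp_equiv B halt hnd (m := m) (by rw [hm]; ring)
  have hρd : ∀ (d : ↥D) (x : V), ρ d x = x + B (vec d) x • vec d := by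
    intro d x
    rcases hcases x with rfl | ⟨e, rfl⟩
    · simp
    · rw [hρv]
      apply Subtype.ext
      show fv D (d * e * (d : G)⁻¹) = fv D e + (B (vec d) (vec e)) • fv D d
      rw [h.fv_conj_self h3 d.2 e.2, hBB, hBv]
  have hvec : ∀ d : ↥D, vec d ≠ 0 := fun d e => h.fv_ne_zero d.2 (congrArg Subtype.val e)
  refine ⟨m, (MulEquiv.ofBijective φ ⟨hinj, hsurj⟩).trans ψ, ?_⟩
  ext g
  constructor
  · rintro ⟨d, hd, rfl⟩
    exact (hψ (φ d)).2 ⟨vec ⟨d, hd⟩, hvec _, hρd ⟨d, hd⟩⟩
  · intro hg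
    obtain ⟨f, rfl⟩ := ψ.surjective g
    obtain ⟨a, ha, hfa⟩ := (hψ f).1 hg
    obtain ⟨d, rfl⟩ := (hcases a).resolve_left ha
    refine ⟨d, d.2, congrArg ψ ?_⟩
    exact Subtype.ext (LinearEquiv.ext fun x => (hρd d x).trans (hfa x).symm)

theorem equiv_sp : ∃ m : ℕ, Nonempty (G ≃* Matrix.symplecticGroup (Fin m) (ZMod 2)) := by
  obtain ⟨m, e, -⟩ := h.equiv_sp_image h3
  exact ⟨m, ⟨e⟩⟩

end Pre

end Cfsg.Agent.ThreeTrans.Polar
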