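/-
Small facts on the field with four elements.

Main results: `GF4.cases`, `GF4.add_of_two`, `GF4.linear_or_semilinear`.
-/
import Cfsg.Agent.Lib.U62Cover.Field

set_option autoImplicit false

namespace Cfsg.Agent.ThreeTrans.Polar.GF4

open Cfsg.Agent.U62Cover (two_eq_zero add_self pow_three exists_omega)

variable {F : Type*} [Field F] [Fintype F] (hF : Fintype.card F = 4)
include hF

theorem eq_of_add_zero {a b : F} (h : a + b = 0) : a = b := by
  linear_combination h - b * two_eq_zero hF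

theorem add_eq_zero {a b : F} : a + b = 0 ↔ a = b :=
  ⟨eq_of_add_zero hF, fun h => h ▸ add_self hF a⟩

theorem add_cancel (a b : F) : a + b + b = a := by rw [add_assoc, add_self hF, add_zero]

/-- The four elements in terms of two. -/
theorem cases {τ x : F} (hτ : τ ≠ 0) (hx0 : x ≠ 0) (hxτ : x ≠ τ) (y : F) :
    y = 0 ∨ y = τ ∨ y = x ∨ y = x + τ := by
  classical
  have h1 : x + τ ≠ 0 := fun e => hxτ (eq_of_add_zero hF e)
  have h2 : x + τ ≠ τ := fun e => hx0 (by linear_combination e)
  have h3 : x + τ ≠ x := fun e => hτ (by linear_combination e)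
  have hcard : ({0, τ, x, x + τ} : Finset F).card = 4 := by
    rw [Finset.card_insert_of_notMem (by simp [hτ.symm, hx0.symm, h1.symm]),
      Finset.card_insert_of_notMem (by simp [hxτ.symm, h2.symm]),
      Finset.card_pair h3.symm]
  have huniv : ({0, τ, x, x + τ} : Finset F) = Finset.univ :=
    Finset.eq_univ_of_card _ (by rw [hcard, hF])
  have hy := Finset.mem_univ y
  rw [← huniv] at hy
  simpa using hy

theorem add_of_two {τ x y : F} (hτ : τ ≠ 0) (hx0 : x ≠ 0) (hxτ : x ≠ τ) (hy0 : y ≠ 0)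
    (hyτ : y ≠ τ) (hyx : y ≠ x) : y = x + τ :=
  (((cases hF hτ hx0 hxτ y).resolve_left hy0).resolve_left hyτ).resolve_left hyx

theorem sq_sq (a : F) : (a ^ 2) ^ 2 = a := by
  have := FiniteField.pow_card a
  rwa [hF, show (4 : ℕ) = 2 * 2 by rfl, pow_mul] at this

theorem add_sq (a b : F) : (a + b) ^ 2 = a ^ 2 + b ^ 2 := by
  linear_combination (a * b) * two_eq_zero hF

theorem mul_sq_self {a : F} (ha : a ≠ 0) : a * a ^ 2 = 1 := by rw [← pow_succ', pow_three hF ha]

theorem inv_eq_sq {a : F} (ha : a ≠ 0) : a⁻¹ = a ^ 2 :=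
  inv_eq_of_mul_eq_one_right (mul_sq_self hF ha)

theorem trace_one {a : F} (h0 : a ≠ 0) (h1 : a ≠ 1) : a ^ 2 = a + 1 := by
  have h3 := pow_three hF h0
  have hne : a - 1 ≠ 0 := sub_ne_zero.2 h1
  have h : a ^ 2 + a + 1 = 0 := by
    have : (a - 1) * (a ^ 2 + a + 1) = 0 := by linear_combination h3
    simpa [hne] using this
  linear_combination h - (a + 1) * two_eq_zero hF

/-- An additive bijection is linear or semilinear. -/
theorem linear_or_semilinear {f : F → F} (hadd : ∀ x y, f (x + y) = f x + f y)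
    (hinj : Function.Injective f) :
    (∀ x, f x = f 1 * x) ∨ (∀ x, f x = f 1 * x ^ 2) := by
  have h0 : f 0 = 0 := by simpa using hadd 0 0
  obtain ⟨w, hw0, hw⟩ := exists_omega hF
  have hw1 : w ≠ 1 := fun e => by
    rw [e, one_pow] at hw; exact one_ne_zero (by linear_combination -hw)
  have ha : f 1 ≠ 0 := fun e => one_ne_zero (hinj (e.trans h0.symm))
  have hb0 : f w * (f 1)⁻¹ ≠ 0 :=
    mul_ne_zero (fun e => hw0 (hinj (e.trans h0.symm))) (inv_ne_zero ha)
  have hb1 : f w * (f 1)⁻¹ ≠ 1 := fun e => hw1 (hinj ((mul_inv_eq_one₀ ha).1 e))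
  rcases cases hF one_ne_zero hw0 hw1 (f w * (f 1)⁻¹) with e | e | e | e
  · exact absurd e hb0
  · exact absurd e hb1
  · left
    have hfw : f w = f 1 * w := by rw [(mul_inv_eq_iff_eq_mul₀ ha).1 e, mul_comm]
    intro x
    rcases cases hF one_ne_zero hw0 hw1 x with rfl | rfl | rfl | rfl
    · simp [h0]
    · simp
    · exact hfw
    · rw [hadd, hfw]; ring
  · right
    have hfw : f w = f 1 * w ^ 2 := by rw [(mul_inv_eq_iff_eq_mul₀ ha).1 e, hw, mul_comm]
    intro x
    rcases cases hF one_ne_zero hw0 hw1 x with rfl | rfl | rfl | rfl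
    · simp [h0]
    · simp
    · exact hfw
    · rw [hadd, hfw, add_sq hF]; ring

end Cfsg.Agent.ThreeTrans.Polar.GF4
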