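/-
The lines through a point: translations of their points and a linear labelling by the field with
four elements.

Main results: `Base`, `fib`, `Label`, `th`, `Base.exists_linear_label`.
-/
import Cfsg.Agent.Lib.ThreeTrans.Polar.Five
import Cfsg.Agent.Lib.ThreeTrans.Polar.GF4

set_option autoImplicit false

namespace Cfsg.Agent.ThreeTrans.Polar

open Cfsg Cfsg.Agent.ThreeTransRank Cfsg.Agent.ThreeTrans
open Cfsg.Agent.ThreeTrans.SolvLocal (line cmap of_cmap conj_fix commute_of_fix)

variable {G : Type*} [Group G] {D : Set G} {a c : G}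

/-- Five points on every line, and a pair of non-commuting members. -/
structure Base (D : Set G) (a c : G) : Prop where
  pre : Pre D
  size : ∀ x ∈ D, ∀ y ∈ D, x ≠ y → Commute x y → (pts D x y).ncard = 5
  ha : a ∈ D
  hc : c ∈ D
  nac : ¬ Commute a c

/-- The points other than `a` of the line through `a` and `p`. -/
def fib (D : Set G) (a p : G) : Set G := pts D a p \ {a}

variable {F : Type*} [Field F] [Fintype F]

/-- A labelling of the fibres by the field, with `0` at the base points. -/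
structure Label (D : Set G) (a c : G) (l : G → G → F) : Prop where
  zero : ∀ p ∈ line D a c, l p p = 0
  surj : ∀ p ∈ line D a c, ∀ t : F, ∃ q ∈ fib D a p, l p q = t
  inj : ∀ p ∈ line D a c, Set.InjOn (l p) (fib D a p)

/-- The point with a given label. -/
noncomputable def pt (D : Set G) (a : G) (l : G → G → F) (p : G) (t : F) : G := by
  classical exact if h : ∃ q ∈ fib D a p, l p q = t then h.choose else 1

/-- The translation attached to a point. -/
noncomputable def tr (D : Set G) (a : G) (l : G → G → F) (p : G) (t : F) : G := p * pt D a l p t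

/-- The amount by which `tr p t` translates the fibre of `r`. -/
noncomputable def th (D : Set G) (a : G) (l : G → G → F) (r p : G) (t : F) : F :=
  l r (tr D a l p t * r * (tr D a l p t)⁻¹)

namespace Base

variable (B : Base D a c)
include B

theorem ne_a {p : G} (hp : p ∈ line D a c) : a ≠ p := fun e => B.nac (e.symm ▸ hp.2.2)

theorem self_mem {p : G} (hp : p ∈ line D a c) : p ∈ fib D a p :=
  ⟨right_mem_pts hp.1 hp.2.1.symm, fun e => B.ne_a hp (Set.mem_singleton_iff.1 e).symm⟩

theorem fib_mem {p q : G} (_hp : p ∈ line D a c) (hq : q ∈ fib D a p) :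
    q ∈ D ∧ q ≠ a ∧ Commute q a :=
  ⟨hq.1.1.1, fun e => hq.2 (Set.mem_singleton_iff.2 e), hq.1.1.2.1⟩

variable [Finite G]

theorem eq_of_commute {p q : G} (hp : p ∈ line D a c) (hq : q ∈ fib D a p) (h : Commute c q) :
    q = p := by
  by_contra hne
  exact B.nac (B.pre.commute_all B.ha hp.1 (B.ne_a hp) hp.2.1.symm B.hc hq.1
    (right_mem_pts hp.1 hp.2.1.symm) hne h hp.2.2.symm (left_mem_pts B.ha hp.2.1.symm)).symm

theorem fib_eq {p r q : G} (hp : p ∈ line D a c) (hr : r ∈ line D a c) (h1 : q ∈ fib D a p)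
    (h2 : q ∈ fib D a r) : p = r := by
  have hqa := (B.fib_mem hp h1).2.1
  have e1 := B.pre.pts_eq B.ha hp.1 (B.ne_a hp) hp.2.1.symm (left_mem_pts B.ha hp.2.1.symm) h1.1
    hqa.symm
  have e2 := B.pre.pts_eq B.ha hr.1 (B.ne_a hr) hr.2.1.symm (left_mem_pts B.ha hr.2.1.symm) h2.1
    hqa.symm
  have hm : r ∈ pts D a p := by rw [← e1, e2]; exact right_mem_pts hr.1 hr.2.1.symm
  exact (B.eq_of_commute hp ⟨hm, fun e => B.ne_a hr (Set.mem_singleton_iff.1 e).symm⟩
    hr.2.2.symm).symm

theorem fib_cover {q : G} (hq : q ∈ adj D a) : ∃ p ∈ line D a c, q ∈ fib D a p := by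
  obtain ⟨p, hp, hcp⟩ := B.pre.hit B.ha hq.1 hq.2.1.symm hq.2.2 B.hc
  have hpa : a ≠ p := fun e => B.nac (e ▸ hcp.symm)
  refine ⟨p, ⟨hp.1.1, hp.1.2.1, hcp.symm⟩, ?_, fun e => hq.2.1 (Set.mem_singleton_iff.1 e)⟩
  rw [B.pre.pts_eq B.ha hq.1 hq.2.1.symm hq.2.2 (left_mem_pts B.ha hq.2.2) hp hpa]
  exact right_mem_pts hq.1 hq.2.2

theorem fib_commute {p r q q' : G} (hp : p ∈ line D a c) (hr : r ∈ line D a c)
    (hq : q ∈ fib D a p) (hq' : q' ∈ fib D a r) : Commute q q' ↔ Commute p r := by
  obtain ⟨hqD, hqa, hqc⟩ := B.fib_mem hp hq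
  obtain ⟨hq'D, hq'a, hq'c⟩ := B.fib_mem hr hq'
  have mp := right_mem_pts (D := D) hp.1 hp.2.1.symm
  have mr := right_mem_pts (D := D) hr.1 hr.2.1.symm
  have map := left_mem_pts (D := D) B.ha hp.2.1.symm
  have mar := left_mem_pts (D := D) B.ha hr.2.1.symm
  constructor
  · intro h
    have h1 : Commute q r := B.pre.commute_all B.ha hr.1 (B.ne_a hr) hr.2.1.symm hqD mar hq'.1
      hq'a.symm hqc h mr
    exact (B.pre.commute_all B.ha hp.1 (B.ne_a hp) hp.2.1.symm hr.1 map hq.1 hqa.symm hr.2.1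
      h1.symm mp).symm
  · intro h
    have h1 : Commute r q := B.pre.commute_all B.ha hp.1 (B.ne_a hp) hp.2.1.symm hr.1 map mp
      (B.ne_a hp) hr.2.1 h.symm hq.1
    exact B.pre.commute_all B.ha hr.1 (B.ne_a hr) hr.2.1.symm hqD mar mr (B.ne_a hr) hqc h1.symm
      hq'.1

theorem hit_fib {x p : G} (hx : x ∈ D) (hxa : ¬ Commute x a) (hp : p ∈ line D a c) :
    ∃ q ∈ fib D a p, Commute x q ∧ ∀ q' ∈ fib D a p, Commute x q' → q' = q := by
  obtain ⟨q, hq, hxq⟩ := B.pre.hit B.ha hp.1 (B.ne_a hp) hp.2.1.symm hx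
  refine ⟨q, ⟨hq, fun e => hxa (Set.mem_singleton_iff.1 e ▸ hxq)⟩, hxq, fun q' hq' hxq' =>
    B.pre.hit_unique B.ha hp.1 (B.ne_a hp) hp.2.1.symm hx hq'.1 hq hxq' hxq
      ⟨a, left_mem_pts B.ha hp.2.1.symm, hxa⟩⟩

theorem conj_fib {p r q q' : G} (hp : p ∈ line D a c) (hr : r ∈ line D a c)
    (hq : q ∈ fib D a p) (hq' : q' ∈ fib D a r) : p * q * q' * (p * q)⁻¹ ∈ fib D a r := by
  obtain ⟨hqD, hqa, hqc⟩ := B.fib_mem hp hq
  obtain ⟨hq'D, hq'a, hq'c⟩ := B.fib_mem hr hq'
  have hm := B.pre.move B.ha hp.1 (B.ne_a hp) hp.2.1.symm (right_mem_pts hp.1 hp.2.1.symm) hq.1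
    (left_mem_pts B.ha hp.2.1.symm) (B.ne_a hp).symm hqa hq'D hq'c hq'a
  have hcm : Commute (p * q) a := hp.2.1.mul_left hqc
  refine ⟨?_, fun e => hq'a ?_⟩
  · rwa [B.pre.pts_eq B.ha hr.1 (B.ne_a hr) hr.2.1.symm hq'.1 (left_mem_pts B.ha hr.2.1.symm) hq'a]
      at hm
  · have e' := (Set.mem_singleton_iff.1 e).trans (conj_fix hcm).symm
    exact mul_left_cancel (mul_right_cancel e')

theorem ncard_fib {p : G} (hp : p ∈ line D a c) : (fib D a p).ncard = 4 := by
  rw [fib, Set.ncard_sdiff_singleton_of_mem (left_mem_pts B.ha hp.2.1.symm),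
    B.size a B.ha p hp.1 (B.ne_a hp) hp.2.1.symm]

theorem exists_label (hF : Fintype.card F = 4) : ∃ l : G → G → F, Label D a c l := by
  classical
  have hex : ∀ p : G, ∃ f : G → F, p ∈ line D a c → f p = 0 ∧ Set.BijOn f (fib D a p) Set.univ := by
    intro p
    by_cases hp : p ∈ line D a c
    · have hcard : Nat.card (fib D a p) = Nat.card F := by
        rw [Nat.card_coe_set_eq, B.ncard_fib hp, Nat.card_eq_fintype_card, hF]
      let e₀ : fib D a p ≃ F := (Finite.equivFinOfCardEq hcard).trans (Finite.equivFin F).symm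
      let e : fib D a p ≃ F := e₀.trans (Equiv.swap (e₀ ⟨p, B.self_mem hp⟩) 0)
      refine ⟨fun q => if hq : q ∈ fib D a p then e ⟨q, hq⟩ else 0, fun _ => ⟨?_, ?_, ?_, ?_⟩⟩
      · simp only [dif_pos (B.self_mem hp)]
        simp [e]
      · exact fun _ _ => Set.mem_univ _
      · intro q hq q' hq' h
        simp only [dif_pos hq, dif_pos hq'] at h
        exact congrArg Subtype.val (e.injective h)
      · intro t _
        refine ⟨(e.symm t).1, (e.symm t).2, ?_⟩
        simp
    · exact ⟨fun _ => 0, fun h => absurd h hp⟩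
  choose f hf using hex
  exact ⟨f, fun p hp => (hf p hp).1,
    fun p hp t => (hf p hp).2.surjOn (Set.mem_univ t), fun p hp => (hf p hp).2.injOn⟩

variable {l : G → G → F} (L : Label D a c l)
include L

theorem pt_spec {p : G} (hp : p ∈ line D a c) (t : F) :
    pt D a l p t ∈ fib D a p ∧ l p (pt D a l p t) = t := by
  rw [pt, dif_pos (L.surj p hp t)]
  exact (L.surj p hp t).choose_spec

theorem pt_eq {p q : G} (hp : p ∈ line D a c) (hq : q ∈ fib D a p) : pt D a l p (l p q) = q :=
  L.inj p hp (B.pt_spec L hp _).1 hq (B.pt_spec L hp _).2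

theorem pt_zero {p : G} (hp : p ∈ line D a c) : pt D a l p 0 = p := by
  rw [← L.zero p hp]; exact B.pt_eq L hp (B.self_mem hp)

theorem tr_comm {p : G} (hp : p ∈ line D a c) (t : F) :
    Commute p (pt D a l p t) ∧ Commute (tr D a l p t) a ∧ (tr D a l p t)⁻¹ = tr D a l p t := by
  obtain ⟨hq, -⟩ := B.pt_spec L hp t
  have hc := pts_commute (right_mem_pts hp.1 hp.2.1.symm) hq.1
  refine ⟨hc, hp.2.1.mul_left hq.1.1.2.1, ?_⟩
  rw [tr, mul_inv_rev, inv_eq B.pre.set hp.1, inv_eq B.pre.set hq.1.1.1, hc.eq]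

theorem tr_mem {p r q' : G} (hp : p ∈ line D a c) (hr : r ∈ line D a c) (t : F)
    (hq' : q' ∈ fib D a r) : tr D a l p t * q' * (tr D a l p t)⁻¹ ∈ fib D a r :=
  B.conj_fib hp hr (B.pt_spec L hp t).1 hq'

theorem tr_fix {p r q' : G} (hp : p ∈ line D a c) (hr : r ∈ line D a c) (t : F)
    (hq' : q' ∈ fib D a r) :
    tr D a l p t * q' * (tr D a l p t)⁻¹ = q' ↔ t = 0 ∨ Commute p r := by
  obtain ⟨hq, hl⟩ := B.pt_spec L hp t
  constructor
  · intro h
    by_contra hcon
    rw [not_or] at hcon
    obtain ⟨hqD, -, -⟩ := B.fib_mem hp hq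
    have hne : p ≠ pt D a l p t := fun e => hcon.1 (by rw [← hl, ← e, L.zero p hp])
    have h1 := ((commute_mul_iff B.pre.set hp.1 hqD hq'.1.1.1 hne (B.tr_comm L hp t).1).1
      (commute_of_fix h).symm).1
    exact hcon.2 ((B.fib_commute hp hr (B.self_mem hp) hq').1 h1.symm)
  · rintro (rfl | h)
    · rw [tr, B.pt_zero L hp, mul_self B.pre.set hp.1]; group
    · exact conj_fix (((B.fib_commute hp hr (B.self_mem hp) hq').2 h).mul_left
        ((B.fib_commute hp hr hq hq').2 h))

theorem th_eq_zero {p r : G} (hp : p ∈ line D a c) (hr : r ∈ line D a c) (t : F) :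
    th D a l r p t = 0 ↔ t = 0 ∨ Commute p r := by
  rw [← B.tr_fix L hp hr t (B.self_mem hr)]
  constructor
  · intro h
    refine L.inj r hr (B.tr_mem L hp hr t (B.self_mem hr)) (B.self_mem hr) ?_
    rw [L.zero r hr]; exact h
  · intro h
    rw [th, h, L.zero r hr]

variable (hF : Fintype.card F = 4)
include hF

theorem translate {p r q' : G} (hp : p ∈ line D a c) (hr : r ∈ line D a c) (t : F)
    (hq' : q' ∈ fib D a r) :
    l r (tr D a l p t * q' * (tr D a l p t)⁻¹) = l r q' + th D a l r p t := by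
  by_cases h0 : t = 0 ∨ Commute p r
  · rw [(B.tr_fix L hp hr t hq').2 h0, (B.th_eq_zero L hp hr t).2 h0, add_zero]
  have hτ : th D a l r p t ≠ 0 := fun e => h0 ((B.th_eq_zero L hp hr t).1 e)
  obtain ⟨-, -, hinv⟩ := B.tr_comm L hp t
  rcases eq_or_ne q' r with rfl | hne
  · rw [L.zero q' hr, zero_add]; rfl
  set u := tr D a l p t with hu
  have huu : u * u = 1 := mul_eq_one_iff_eq_inv.2 hinv.symm
  have hback : ∀ y : G, u * (u * y * u⁻¹) * u⁻¹ = y := fun y => by
    rw [hinv]
    calc u * (u * y * u) * u = (u * u) * y * (u * u) := by simp only [mul_assoc]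
      _ = y := by rw [huu, one_mul, mul_one]
  set y := u * q' * u⁻¹ with hy
  have hyf : y ∈ fib D a r := B.tr_mem L hp hr t hq'
  have hur : u * r * u⁻¹ ∈ fib D a r := B.tr_mem L hp hr t (B.self_mem hr)
  have hinj := L.inj r hr
  rcases eq_or_ne (l r q') (th D a l r p t) with e | e
  · have h9 : q' = u * r * u⁻¹ := hinj hq' hur e
    rw [hy, h9, hback, L.zero r hr, show l r (u * r * u⁻¹) = th D a l r p t from rfl,
      Cfsg.Agent.U62Cover.add_self hF]
  refine GF4.add_of_two hF hτ (fun e' => hne (hinj hq' (B.self_mem hr) (by rw [e', L.zero r hr])))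
    e ?_ ?_ ?_
  · intro e'
    have h9 : y = r := hinj hyf (B.self_mem hr) (by rw [e', L.zero r hr])
    apply e
    have : q' = u * r * u⁻¹ := by rw [← h9, hback]
    rw [this]; rfl
  · intro e'
    have h9 : y = u * r * u⁻¹ := hinj hyf hur e'
    exact hne (mul_left_cancel (mul_right_cancel h9))
  · intro e'
    exact h0 ((B.tr_fix L hp hr t hq').1 (hinj hyf hq' e'))

theorem th_add {p r : G} (hp : p ∈ line D a c) (hr : r ∈ line D a c) (t t' : F) :
    th D a l r p (t + t') = th D a l r p t + th D a l r p t' := by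
  by_cases hpr : Commute p r
  · simp [(B.th_eq_zero L hp hr _).2 (Or.inr hpr)]
  have h0 : th D a l r p 0 = 0 := (B.th_eq_zero L hp hr 0).2 (Or.inl rfl)
  rcases eq_or_ne t 0 with rfl | ht
  · rw [zero_add, h0, zero_add]
  rcases eq_or_ne t' 0 with rfl | ht'
  · rw [add_zero, h0, add_zero]
  rcases eq_or_ne t t' with rfl | hne
  · rw [Cfsg.Agent.U62Cover.add_self hF, h0, Cfsg.Agent.U62Cover.add_self hF]
  have h2 : t + t' ≠ 0 := fun e => hne (GF4.eq_of_add_zero hF e)
  obtain ⟨hq, hl⟩ := B.pt_spec L hp t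
  obtain ⟨hq', hl'⟩ := B.pt_spec L hp t'
  obtain ⟨hq'', hl''⟩ := B.pt_spec L hp (t + t')
  set q := pt D a l p t with hqdef
  set q' := pt D a l p t' with hq'def
  set q'' := pt D a l p (t + t') with hq''def
  have mp := right_mem_pts (D := D) hp.1 hp.2.1.symm
  have map := left_mem_pts (D := D) B.ha hp.2.1.symm
  have lne : ∀ {x y : G}, l p x ≠ l p y → x ≠ y := fun h e => h (e ▸ rfl)
  have l0 := L.zero p hp
  have n1 : p ≠ q := lne (by rw [hl, l0]; exact ht.symm)
  have n2 : p ≠ q' := lne (by rw [hl', l0]; exact ht'.symm)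
  have n3 : p ≠ q'' := lne (by rw [hl'', l0]; exact h2.symm)
  have n4 : q ≠ q' := lne (by rw [hl, hl']; exact hne)
  have n5 : q ≠ q'' := lne (by rw [hl, hl'']; intro e; exact ht' (by linear_combination -e))
  have n6 : q' ≠ q'' := lne (by rw [hl', hl'']; intro e; exact ht (by linear_combination -e))
  have n7 : p ≠ a := (B.ne_a hp).symm
  have hqa : q ≠ a := (B.fib_mem hp hq).2.1
  have hq'a : q' ≠ a := (B.fib_mem hp hq').2.1
  have hq''a : q'' ≠ a := (B.fib_mem hp hq'').2.1
  have hprod := B.pre.prod_five B.ha hp.1 (B.ne_a hp) hp.2.1.symm (v := ![q, q', p, q'', a])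
    (by intro i; fin_cases i <;> first | exact hq.1 | exact hq'.1 | exact mp | exact hq''.1 | exact map)
    (by
      intro i j hij
      fin_cases i <;> fin_cases j <;>
        first
        | rfl
        | exact absurd hij n1
        | exact absurd hij.symm n1
        | exact absurd hij n2
        | exact absurd hij.symm n2
        | exact absurd hij n3
        | exact absurd hij.symm n3
        | exact absurd hij n4
        | exact absurd hij.symm n4
        | exact absurd hij n5
        | exact absurd hij.symm n5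
        | exact absurd hij n6
        | exact absurd hij.symm n6
        | exact absurd hij n7
        | exact absurd hij.symm n7
        | exact absurd hij hqa
        | exact absurd hij.symm hqa
        | exact absurd hij hq'a
        | exact absurd hij.symm hq'a
        | exact absurd hij hq''a
        | exact absurd hij.symm hq''a)
  simp only [Matrix.cons_val] at hprod
  -- the product of two translations
  have hkey : tr D a l p t * tr D a l p t' * tr D a l p (t + t') = a := by
    rw [tr, tr, tr, ← hqdef, ← hq'def, ← hq''def]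
    have c1 : Commute p q := (B.tr_comm L hp t).1
    calc p * q * (p * q') * (p * q'') = (p * p) * q * q' * p * q'' := by
          rw [show p * q * (p * q') = p * (q * p) * q' by simp only [mul_assoc], ← c1.eq]
          simp only [mul_assoc]
      _ = q * q' * p * q'' := by rw [mul_self B.pre.set hp.1, one_mul]
      _ = a⁻¹ := eq_inv_of_mul_eq_one_left hprod
      _ = a := inv_eq B.pre.set B.ha
  have e1 := B.translate L hF hp hr t (B.tr_mem L hp hr t' (B.tr_mem L hp hr (t + t') (B.self_mem hr)))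
  rw [B.translate L hF hp hr t' (B.tr_mem L hp hr (t + t') (B.self_mem hr)),
    B.translate L hF hp hr (t + t') (B.self_mem hr), L.zero r hr, zero_add] at e1
  have e2 : tr D a l p t * (tr D a l p t' * (tr D a l p (t + t') * r * (tr D a l p (t + t'))⁻¹) *
      (tr D a l p t')⁻¹) * (tr D a l p t)⁻¹ = r := by
    calc _ = (tr D a l p t * tr D a l p t' * tr D a l p (t + t')) * r *
          (tr D a l p t * tr D a l p t' * tr D a l p (t + t'))⁻¹ := by group
      _ = r := by rw [hkey, conj_fix hr.2.1.symm]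
  rw [e2, L.zero r hr] at e1
  linear_combination e1 + (th D a l r p (t + t')) * Cfsg.Agent.U62Cover.two_eq_zero hF

omit hF in
theorem th_symm {p r : G} (hp : p ∈ line D a c) (hr : r ∈ line D a c) (hpr : ¬ Commute p r) (t : F) :
    th D a l p r (th D a l r p t) = t := by
  obtain ⟨hq, hl⟩ := B.pt_spec L hp t
  have hD := B.pre.set
  set q := pt D a l p t with hqdef
  have hqD := hq.1.1.1
  have hpq : Commute p q := (B.tr_comm L hp t).1
  have hqr : ¬ Commute q r := fun e => hpr ((B.fib_commute hp hr hq (B.self_mem hr)).1 e)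
  obtain ⟨-, -, hinv⟩ := B.tr_comm L hp t
  have hx : pt D a l r (th D a l r p t) = tr D a l p t * r * (tr D a l p t)⁻¹ :=
    B.pt_eq L hr (B.tr_mem L hp hr t (B.self_mem hr))
  set x := tr D a l p t * r * (tr D a l p t)⁻¹ with hxdef
  have hxD : x ∈ D := (B.fib_mem hr (B.tr_mem L hp hr t (B.self_mem hr))).1
  have hxp : ¬ Commute x p := fun e => hpr
    ((B.fib_commute hr hp (B.tr_mem L hp hr t (B.self_mem hr)) (B.self_mem hp)).1 e).symm
  have e1 : x * p * x = r * q * r := by
    rw [braid hD hxD hp.1 hxp, hxdef, hinv, tr, ← hqdef]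
    calc p * (p * q * r * (p * q)) * p = (p * p) * q * r * (p * q * p) := by simp only [mul_assoc]
      _ = q * r * q := by
          rw [mul_self hD hp.1, one_mul, conj_conj_of_commute hD hp.1 hpq]
      _ = r * q * r := braid hD hqD hr.1 hqr
  rw [th, show tr D a l r (th D a l r p t) = r * x by rw [tr, hx]]
  rw [show r * x * p * (r * x)⁻¹ = r * (x * p * x) * r by
    rw [mul_inv_rev, inv_eq hD hxD, inv_eq hD hr.1]; simp only [mul_assoc], e1]
  rw [show r * (r * q * r) * r = q by
    simp only [mul_assoc, mul_self hD hr.1, mul_one, mul_self_cancel hD hr.1]]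
  exact hl

omit hF in
theorem th_inj {p r : G} (hp : p ∈ line D a c) (hr : r ∈ line D a c) (hpr : ¬ Commute p r) :
    Function.Injective (th D a l r p) := fun t t' e => by
  rw [← B.th_symm L hp hr hpr t, e, B.th_symm L hp hr hpr t']

omit hF in
/-- The composition agrees exactly when the translation fixes the third point. -/
theorem th_comp {p r s : G} (hp : p ∈ line D a c) (hr : r ∈ line D a c) (hs : s ∈ line D a c)
    (hpr : ¬ Commute p r) (t : F) :
    th D a l p s t = th D a l p r (th D a l r s t) ↔ t = 0 ∨ Commute s (r * p * r) := by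
  have hD := B.pre.set
  have hr' : r * p * r ∈ line D a c := ⟨B.pre.conj_mem' hr.1 hp.1,
    (hr.2.1.mul_left hp.2.1).mul_left hr.2.1, (hr.2.2.mul_left hp.2.2).mul_left hr.2.2⟩
  rw [← B.tr_fix L hs hr' t (B.self_mem hr')]
  set u := tr D a l s t with hu
  set qp := u * p * u⁻¹ with hqp
  set qr := u * r * u⁻¹ with hqr
  have fqp : qp ∈ fib D a p := B.tr_mem L hs hp t (B.self_mem hp)
  have fqr : qr ∈ fib D a r := B.tr_mem L hs hr t (B.self_mem hr)
  have himg : u * (r * p * r) * u⁻¹ = qr * qp * qr := by rw [hqp, hqr]; group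
  have hv : th D a l r s t = l r qr := rfl
  have hpt : pt D a l r (th D a l r s t) = qr := by rw [hv, B.pt_eq L hr fqr]
  have hc' : Commute r qr := pts_commute (right_mem_pts hr.1 hr.2.1.symm) fqr.1
  have hcomp : th D a l p r (th D a l r s t) = l p (qr * (r * p * r) * qr) := by
    rw [th, show tr D a l r (th D a l r s t) = r * qr by rw [tr, hpt], hc'.eq, mul_inv_rev,
      inv_eq hD hr.1, inv_eq hD fqr.1.1.1]
    simp only [mul_assoc]
  have hmem : qr * (r * p * r) * qr ∈ fib D a p := by
    have := B.conj_fib hr hp fqr (B.self_mem hp)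
    rwa [hc'.eq, mul_inv_rev, inv_eq hD hr.1, inv_eq hD fqr.1.1.1,
      show qr * r * p * (r * qr) = qr * (r * p * r) * qr by simp only [mul_assoc]] at this
  rw [hcomp, himg]
  have hqq := mul_self hD fqr.1.1.1
  constructor
  · intro h
    have h9 : qp = qr * (r * p * r) * qr := L.inj p hp fqp hmem h
    rw [h9]
    calc qr * (qr * (r * p * r) * qr) * qr = (qr * qr) * (r * p * r) * (qr * qr) := by
          simp only [mul_assoc]
      _ = r * p * r := by rw [hqq, one_mul, mul_one]
  · intro h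
    show l p qp = _
    congr 1
    calc qp = (qr * qr) * qp * (qr * qr) := by rw [hqq, one_mul, mul_one]
      _ = qr * (qr * qp * qr) * qr := by simp only [mul_assoc]
      _ = _ := by rw [h]

end Base

end Cfsg.Agent.ThreeTrans.Polar
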