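/-
A labelling for which all translations are linear.

Main result: `Base.exists_linear_label`.
-/
import Cfsg.Agent.Lib.ThreeTrans.Polar.Fibre

set_option autoImplicit false

namespace Cfsg.Agent.ThreeTrans.Polar

open Cfsg Cfsg.Agent.ThreeTransRank Cfsg.Agent.ThreeTrans
open Cfsg.Agent.ThreeTrans.SolvLocal (line cmap of_cmap conj_fix commute_of_fix)

variable {G : Type*} [Group G] {D : Set G} {a c : G} {F : Type*} [Field F] [Fintype F]

/-- The translation of the fibre of `r` by that of `p` is linear. -/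
def Lin (D : Set G) (a : G) (l : G → G → F) (r p : G) : Prop :=
  ∀ t, th D a l r p t = th D a l r p 1 * t

/-- The orientations at `x` and `y` agree, measured at `s`. -/
def Agree (D : Set G) (a : G) (l : G → G → F) (x y s : G) : Prop :=
  Lin D a l x s ↔ Lin D a l y s

/-- A common non-commuting witness shows that the orientations agree. -/
def Same (D : Set G) (a c : G) (l : G → G → F) (x y : G) : Prop :=
  ∃ s ∈ line D a c, ¬ Commute x s ∧ ¬ Commute y s ∧ Agree D a l x y s

namespace Base

variable [Finite G] (B : Base D a c)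
include B

theorem line_conj_mem {x y : G} (hx : x ∈ line D a c) (hy : y ∈ line D a c) :
    x * y * x ∈ line D a c :=
  ⟨B.pre.conj_mem' hx.1 hy.1, (hx.2.1.mul_left hy.2.1).mul_left hx.2.1,
    (hx.2.2.mul_left hy.2.2).mul_left hx.2.2⟩

omit B in
theorem commute_conj_iff (hD : IsThreeTranspositionSet D) {x y z : G} (hy : y ∈ D)
    (h : Commute x y) : Commute x (y * z * y) ↔ Commute x z := by
  refine ⟨fun h' => ?_, fun h' => (h.mul_right h').mul_right h⟩
  have := (h.mul_right h').mul_right h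
  rwa [show y * (y * z * y) * y = z by
    simp only [mul_assoc, mul_self hD hy, mul_one, mul_self_cancel hD hy]] at this

/-- A third member not commuting with two given ones. -/
theorem exists_witness {x y : G} (hx : x ∈ line D a c) (hy : y ∈ line D a c) :
    ∃ s ∈ line D a c, ¬ Commute x s ∧ ¬ Commute y s := by
  have hD := B.pre.set
  by_cases hxy : Commute x y
  swap
  · refine ⟨x * y * x, B.line_conj_mem hx hy, fun h => hxy ((commute_conj_iff hD hx.1
      (Commute.refl x)).1 h), fun h => ?_⟩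
    rw [braid hD hx.1 hy.1 hxy] at h
    exact hxy (((commute_conj_iff hD hy.1 (Commute.refl y)).1 h).symm)
  obtain ⟨s₀, hs₀, hxs⟩ := B.pre.nondeg B.ha B.hc B.nac hx
  by_cases h1 : Commute y s₀
  swap
  · exact ⟨s₀, hs₀, fun e => hxs e.symm, h1⟩
  obtain ⟨s₁, hs₁, hys⟩ := B.pre.nondeg B.ha B.hc B.nac hy
  by_cases h2 : Commute x s₁
  swap
  · exact ⟨s₁, hs₁, h2, fun e => hys e.symm⟩
  by_cases h3 : Commute s₀ s₁
  swap
  · refine ⟨s₁ * s₀ * s₁, B.line_conj_mem hs₁ hs₀,
      fun h => hxs ((commute_conj_iff hD hs₁.1 h2).1 h).symm, fun h => ?_⟩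
    rw [← braid hD hs₀.1 hs₁.1 h3] at h
    exact hys ((commute_conj_iff hD hs₀.1 h1).1 h).symm
  have hne : s₀ ≠ s₁ := fun e => hxs (e ▸ h2).symm
  obtain ⟨v, hv, hv0, hv1⟩ := B.pre.third hs₀.1 hs₁.1 hne h3
  refine ⟨v, ⟨hv.1.1, ?_, ?_⟩, fun h => hxs ?_, fun h => hys ?_⟩
  · exact (B.pre.commute_all hs₀.1 hs₁.1 hne h3 B.ha (left_mem_pts hs₀.1 h3)
      (right_mem_pts hs₁.1 h3) hne hs₀.2.1.symm hs₁.2.1.symm hv).symm
  · exact (B.pre.commute_all hs₀.1 hs₁.1 hne h3 B.hc (left_mem_pts hs₀.1 h3)
      (right_mem_pts hs₁.1 h3) hne hs₀.2.2.symm hs₁.2.2.symm hv).symm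
  · exact (B.pre.commute_all hs₀.1 hs₁.1 hne h3 hx.1 hv (right_mem_pts hs₁.1 h3) hv1 h h2
      (left_mem_pts hs₀.1 h3)).symm
  · exact (B.pre.commute_all hs₀.1 hs₁.1 hne h3 hy.1 hv (left_mem_pts hs₀.1 h3) hv0 h h1
      (right_mem_pts hs₁.1 h3)).symm

variable {l : G → G → F} (L : Label D a c l) (hF : Fintype.card F = 4)
include L hF

theorem kind {p r : G} (hp : p ∈ line D a c) (hr : r ∈ line D a c) (hpr : ¬ Commute p r) :
    Lin D a l r p ∨ ∀ t, th D a l r p t = th D a l r p 1 * t ^ 2 :=
  GF4.linear_or_semilinear hF (B.th_add L hF hp hr) (B.th_inj L hp hr hpr)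

theorem lin_symm {p r : G} (hp : p ∈ line D a c) (hr : r ∈ line D a c) (hpr : ¬ Commute p r) :
    Lin D a l r p ↔ Lin D a l p r := by
  suffices key : ∀ {p r : G}, p ∈ line D a c → r ∈ line D a c → ¬ Commute p r →
      Lin D a l r p → Lin D a l p r from
    ⟨key hp hr hpr, key hr hp fun e => hpr e.symm⟩
  intro p r hp hr hpr hlin
  have hk : th D a l r p 1 ≠ 0 := fun e =>
    ((B.th_eq_zero L hp hr 1).1 e).elim one_ne_zero hpr
  intro t
  have e1 : ∀ u, th D a l p r u = (th D a l r p 1)⁻¹ * u := by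
    intro u
    have := B.th_symm L hp hr hpr ((th D a l r p 1)⁻¹ * u)
    rwa [hlin, mul_inv_cancel_left₀ hk] at this
  rw [e1 t, e1 1, mul_one]

/-- The parity around a triangle. -/
theorem lin_triangle {p r s : G} (hp : p ∈ line D a c) (hr : r ∈ line D a c) (hs : s ∈ line D a c)
    (hpr : ¬ Commute p r) (hrs : ¬ Commute r s) (hps : ¬ Commute p s) :
    Lin D a l p s ↔ (Lin D a l p r ↔ Lin D a l r s) := by
  obtain ⟨w, hw0, hw⟩ := Cfsg.Agent.U62Cover.exists_omega hF
  have k1 := B.kind L hF hs hp fun e => hps e.symm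
  have k2 := B.kind L hF hr hp fun e => hpr e.symm
  have k3 := B.kind L hF hs hr fun e => hrs e.symm
  have nz : ∀ {x y : G}, x ∈ line D a c → y ∈ line D a c → ¬ Commute x y → th D a l y x 1 ≠ 0 :=
    fun hx hy hxy e => ((B.th_eq_zero L hx hy 1).1 e).elim one_ne_zero hxy
  set A := th D a l p s 1 with hA
  set P := th D a l p r 1 with hP
  set R := th D a l r s 1 with hR
  have hA0 : A ≠ 0 := nz hs hp fun e => hps e.symm
  have hP0 : P ≠ 0 := nz hr hp fun e => hpr e.symm
  have hR0 : R ≠ 0 := nz hs hr fun e => hrs e.symm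
  -- agreement at one non-zero point is agreement everywhere
  have key : ∀ t, t ≠ 0 → th D a l p s t = th D a l p r (th D a l r s t) →
      ∀ u, th D a l p s u = th D a l p r (th D a l r s u) := by
    intro t ht h u
    exact (B.th_comp L hp hr hs hpr u).2
      (Or.inr (((B.th_comp L hp hr hs hpr t).1 h).resolve_left ht))
  -- no map is both linear and semilinear
  have noboth : ∀ {f : F → F} {α β : F}, (∀ t, f t = α * t) → (∀ t, f t = β * t ^ 2) → α = 0 := by
    intro f α β h1 h2
    have e1 : α = β := by simpa using (h1 1).symm.trans (h2 1)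
    have e2 := (h1 w).symm.trans (h2 w)
    rw [← e1, hw] at e2
    linear_combination -e2
  have lin_not : ∀ {x y : G}, th D a l x y 1 ≠ 0 →
      (∀ t, th D a l x y t = th D a l x y 1 * t ^ 2) → ¬ Lin D a l x y :=
    fun h0 hs' hl => h0 (noboth hl hs')
  -- the composition
  have contra : ∀ {α β : F}, α ≠ 0 → β ≠ 0 →
      ((∀ t, th D a l p s t = α * t) ∧ (∀ t, th D a l p r (th D a l r s t) = β * t ^ 2) ∨
        (∀ t, th D a l p s t = α * t ^ 2) ∧ (∀ t, th D a l p r (th D a l r s t) = β * t)) →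
      False := by
    intro α β hα hβ h
    rcases h with ⟨h1, h2⟩ | ⟨h1, h2⟩
    · have ht : α * β⁻¹ ≠ 0 := mul_ne_zero hα (inv_ne_zero hβ)
      exact hα (noboth h1 fun u => (key _ ht (by rw [h1, h2]; field_simp) u).trans (h2 u))
    · have ht : β * α⁻¹ ≠ 0 := mul_ne_zero hβ (inv_ne_zero hα)
      exact hβ (noboth (fun u => (key _ ht (by rw [h1, h2]; field_simp) u).trans (h2 u)) h1)
  rcases k2 with l2 | s2 <;> rcases k3 with l3 | s3
  · have hc : ∀ t, th D a l p r (th D a l r s t) = (P * R) * t := fun t => by rw [l3, l2]; ring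
    exact ⟨fun _ => iff_of_true l2 l3, fun _ => k1.resolve_right fun h1 =>
      contra hA0 (mul_ne_zero hP0 hR0) (Or.inr ⟨h1, hc⟩)⟩
  · have hc : ∀ t, th D a l p r (th D a l r s t) = (P * R) * t ^ 2 := fun t => by rw [s3, l2]; ring
    exact ⟨fun h1 => (contra hA0 (mul_ne_zero hP0 hR0) (Or.inl ⟨h1, hc⟩)).elim,
      fun h => absurd (h.1 l2) (lin_not hR0 s3)⟩
  · have hc : ∀ t, th D a l p r (th D a l r s t) = (P * R ^ 2) * t ^ 2 := fun t => by
      rw [l3, s2]; ring
    exact ⟨fun h1 => (contra hA0 (mul_ne_zero hP0 (pow_ne_zero 2 hR0)) (Or.inl ⟨h1, hc⟩)).elim,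
      fun h => absurd (h.2 l3) (lin_not hP0 s2)⟩
  · have hc : ∀ t, th D a l p r (th D a l r s t) = (P * R ^ 2) * t := fun t => by
      rw [s3, s2, mul_pow, GF4.sq_sq hF]; ring
    exact ⟨fun _ => iff_of_false (lin_not hP0 s2) (lin_not hR0 s3), fun _ => k1.resolve_right
      fun h1 => contra hA0 (mul_ne_zero hP0 (pow_ne_zero 2 hR0)) (Or.inr ⟨h1, hc⟩)⟩

theorem agree_congr {x y s s' : G} (hx : x ∈ line D a c) (hy : y ∈ line D a c)
    (hs : s ∈ line D a c) (hs' : s' ∈ line D a c) (h1 : ¬ Commute x s) (h2 : ¬ Commute y s)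
    (h3 : ¬ Commute x s') (h4 : ¬ Commute y s') : Agree D a l x y s ↔ Agree D a l x y s' := by
  have hD := B.pre.set
  have key : ∀ {u t : G}, u ∈ line D a c → t ∈ line D a c → ¬ Commute u t → ¬ Commute x u →
      ¬ Commute y u → ¬ Commute x t → ¬ Commute y t → (Agree D a l x y u ↔ Agree D a l x y t) := by
    intro u t hu ht hut a1 a2 a3 a4
    have e1 := B.lin_triangle L hF hx hu ht a1 hut a3
    have e2 := B.lin_triangle L hF hy hu ht a2 hut a4
    simp only [Agree, e1, e2]
    tauto
  by_cases hss : Commute s s'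
  swap
  · exact key hs hs' hss h1 h2 h3 h4
  by_cases hxy : Commute x y
  swap
  · have e1 := B.lin_triangle L hF hx hy hs hxy h2 h1
    have e2 := B.lin_triangle L hF hx hy hs' hxy h4 h3
    simp only [Agree, e1, e2]
    tauto
  set t := s * x * s with ht
  have htm : t ∈ line D a c := B.line_conj_mem hs hx
  have back : s * t * s = x := by
    rw [ht]; simp only [mul_assoc, mul_self hD hs.1, mul_one, mul_self_cancel hD hs.1]
  have hts : ¬ Commute s t := fun e => h1 ((commute_conj_iff hD hs.1 (Commute.refl s)).1 e).symm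
  have htx : ¬ Commute x t := fun e => h1 (by
    rw [ht, ← braid hD hx.1 hs.1 h1] at e
    exact (commute_conj_iff hD hx.1 (Commute.refl x)).1 e)
  have hty : ¬ Commute y t := fun e => h2 (by
    rw [ht, ← braid hD hx.1 hs.1 h1] at e
    exact (commute_conj_iff hD hx.1 hxy.symm).1 e)
  have hts' : ¬ Commute s' t := fun e => h3 ((commute_conj_iff hD hs.1 hss.symm).1 e).symm
  exact (key hs htm hts h1 h2 htx hty).trans (key hs' htm hts' h3 h4 htx hty).symm

theorem same_iff {x y s : G} (hx : x ∈ line D a c) (hy : y ∈ line D a c) (hs : s ∈ line D a c)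
    (h1 : ¬ Commute x s) (h2 : ¬ Commute y s) : Same D a c l x y ↔ Agree D a l x y s := by
  constructor
  · rintro ⟨s', hs', h3, h4, h⟩
    exact (B.agree_congr L hF hx hy hs hs' h1 h2 h3 h4).2 h
  · exact fun h => ⟨s, hs, h1, h2, h⟩

theorem lin_iff_same {x p r : G} (hx : x ∈ line D a c) (hp : p ∈ line D a c) (hr : r ∈ line D a c)
    (hpr : ¬ Commute p r) : (Same D a c l x p ↔ Same D a c l x r) ↔ Lin D a l r p := by
  have hD := B.pre.set
  by_cases hxp : Commute x p
  swap
  · by_cases hxr : Commute x r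
    · obtain ⟨s, hs, h1, h2⟩ := B.exists_witness hx hp
      have hx' := B.same_iff L hF hx hr hp hxp fun e => hpr e.symm
      by_cases hrs : Commute r s
      · set s' := p * s * p with hs'def
        have hs' : s' ∈ line D a c := B.line_conj_mem hp hs
        have g2 : ¬ Commute p s' := fun e => h2 ((commute_conj_iff hD hp.1 (Commute.refl p)).1 e)
        have g3 : ¬ Commute r s' := fun e => hpr (by
          rw [hs'def, braid hD hp.1 hs.1 h2] at e
          exact ((commute_conj_iff hD hs.1 hrs).1 e).symm)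
        have g1 : ¬ Commute x s := h1
        by_cases hxs' : Commute x s'
        · -- the triangle `x p s`
          have e1 := B.same_iff L hF hx hp hs h1 h2
          have e2 := B.lin_triangle L hF hx hp hs hxp h2 h1
          have e3 := B.lin_symm L hF hp hr hpr
          rw [e1, hx']
          simp only [Agree, e2]
          tauto
        · rw [B.same_iff L hF hx hp hs' hxs' g2, hx']
          have e2 := B.lin_triangle L hF hx hp hs' hxp g2 hxs'
          simp only [Agree, e2]
          tauto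
      · have e2 := B.lin_triangle L hF hx hp hs hxp h2 h1
        rw [B.same_iff L hF hx hp hs h1 h2, hx']
        simp only [Agree, e2]
        tauto
    · obtain ⟨s, hs, h1, h2⟩ := B.exists_witness hx hp
      obtain ⟨s', hs', h3, h4⟩ := B.exists_witness hx hr
      have e1 := B.lin_triangle L hF hx hp hs hxp h2 h1
      have e2 := B.lin_triangle L hF hx hr hs' hxr h4 h3
      have e3 := B.lin_triangle L hF hx hr hp hxr (fun e => hpr e.symm) hxp
      rw [B.same_iff L hF hx hp hs h1 h2, B.same_iff L hF hx hr hs' h3 h4]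
      simp only [Agree, e1, e2, e3]
      tauto
  by_cases hxr : Commute x r
  swap
  · obtain ⟨s, hs, h1, h2⟩ := B.exists_witness hx hr
    have e1 := B.lin_triangle L hF hx hr hs hxr h2 h1
    have e3 := B.lin_symm L hF hp hr hpr
    rw [B.same_iff L hF hx hr hs h1 h2, B.same_iff L hF hx hp hr hxr hpr]
    simp only [Agree, e1]
    tauto
  obtain ⟨s, hs, h1, h2⟩ := B.exists_witness hx hp
  by_cases hrs : Commute r s
  · set s' := p * s * p with hs'def
    have hs' : s' ∈ line D a c := B.line_conj_mem hp hs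
    have g1 : ¬ Commute x s' := fun e => h1 ((commute_conj_iff hD hp.1 hxp).1 e)
    have g2 : ¬ Commute p s' := fun e => h2 ((commute_conj_iff hD hp.1 (Commute.refl p)).1 e)
    have g3 : ¬ Commute r s' := fun e => hpr (by
      rw [hs'def, braid hD hp.1 hs.1 h2] at e
      exact ((commute_conj_iff hD hs.1 hrs).1 e).symm)
    rw [B.same_iff L hF hx hp hs' g1 g2, B.same_iff L hF hx hr hs' g1 g3]
    have e1 := B.lin_triangle L hF hr hp hs' (fun e => hpr e.symm) g2 g3
    simp only [Agree, e1]
    tauto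
  · rw [B.same_iff L hF hx hp hs h1 h2, B.same_iff L hF hx hr hs h1 hrs]
    have e1 := B.lin_triangle L hF hr hp hs (fun e => hpr e.symm) h2 hrs
    simp only [Agree, e1]
    tauto

omit L in
theorem exists_linear_label :
    ∃ l : G → G → F, Label D a c l ∧
      ∀ p ∈ line D a c, ∀ r ∈ line D a c, ∀ t, th D a l r p t = th D a l r p 1 * t := by
  classical
  obtain ⟨l₀, L₀⟩ := B.exists_label hF
  obtain ⟨x, hx⟩ := B.pre.exists_common B.ha B.hc B.nac
  let φ : G → F → F := fun p t => if Same D a c l₀ x p then t else t ^ 2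
  let l : G → G → F := fun p q => φ p (l₀ p q)
  have hinv : ∀ p t, φ p (φ p t) = t := by
    intro p t; simp only [φ]; split_ifs
    · rfl
    · exact GF4.sq_sq hF t
  have hφ0 : ∀ p, φ p 0 = 0 := by intro p; simp only [φ]; split_ifs <;> simp
  have hφ1 : ∀ p, φ p 1 = 1 := by intro p; simp only [φ]; split_ifs <;> simp
  have L : Label D a c l := by
    refine ⟨fun p hp => by simp only [l]; rw [L₀.zero p hp, hφ0], fun p hp t => ?_, fun p hp => ?_⟩
    · obtain ⟨q, hq, hl⟩ := L₀.surj p hp (φ p t)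
      exact ⟨q, hq, by simp only [l]; rw [hl, hinv]⟩
    · intro q hq q' hq' e
      refine L₀.inj p hp hq hq' ?_
      have := congrArg (φ p) e
      simpa only [l, hinv] using this
  refine ⟨l, L, fun p hp r hr => ?_⟩
  have hth : ∀ t, th D a l r p t = φ r (th D a l₀ r p (φ p t)) := by
    intro t
    have e : pt D a l p t = pt D a l₀ p (φ p t) := by
      obtain ⟨hq, hl⟩ := B.pt_spec L₀ hp (φ p t)
      have := B.pt_eq L hp hq
      rwa [show l p (pt D a l₀ p (φ p t)) = t by simp only [l]; rw [hl, hinv]] at this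
    simp only [th, tr, e, l]
  intro t
  rw [hth, hth, hφ1]
  by_cases hpr : Commute p r
  · rw [(B.th_eq_zero L₀ hp hr _).2 (Or.inr hpr), (B.th_eq_zero L₀ hp hr _).2 (Or.inr hpr), hφ0,
      zero_mul]
  have hiff := B.lin_iff_same L₀ hF hx hp hr hpr
  rcases B.kind L₀ hF hp hr hpr with hl | hsq
  · rw [hl (φ p t)]
    by_cases hs : Same D a c l₀ x p
    · have hs' := ((hiff.2 hl).1 hs)
      simp only [φ, if_pos hs, if_pos hs']
    · have hs' : ¬ Same D a c l₀ x r := fun e => hs ((hiff.2 hl).2 e)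
      simp only [φ, if_neg hs, if_neg hs', mul_pow, GF4.sq_sq hF]
  · have hnl : ¬ Lin D a l₀ r p := fun hl => by
      obtain ⟨w, hw0, hw⟩ := Cfsg.Agent.U62Cover.exists_omega hF
      have h1 := (hl w).symm.trans (hsq w)
      rw [hw] at h1
      refine ((B.th_eq_zero L₀ hp hr 1).1 ?_).elim one_ne_zero hpr
      linear_combination -h1
    rw [hsq (φ p t)]
    by_cases hs : Same D a c l₀ x p
    · have hs' : ¬ Same D a c l₀ x r := fun e => hnl (hiff.1 (iff_of_true hs e))
      simp only [φ, if_pos hs, if_neg hs', mul_pow, GF4.sq_sq hF]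
    · have hs' : Same D a c l₀ x r := by
        by_contra e
        exact hnl (hiff.1 (iff_of_false hs e))
      simp only [φ, if_neg hs, if_pos hs', GF4.sq_sq hF]

end Base

end Cfsg.Agent.ThreeTrans.Polar
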