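/-
The hermitian space of translations and the map from the members not commuting with `a`.

Main results: `Co`, `ev`, `span`, `hm`, `vA`, `Co.shift_all`, `Co.bound`.
-/
import Cfsg.Agent.Lib.ThreeTrans.Polar.Orient
import Cfsg.Agent.Lib.Unitary.Form

set_option autoImplicit false

namespace Cfsg.Agent.ThreeTrans.Polar

open Cfsg Cfsg.Agent.ThreeTransRank Cfsg.Agent.ThreeTrans
open Cfsg.Agent.ThreeTrans.SolvLocal (line cmap of_cmap conj_fix commute_of_fix)

variable {G : Type*} [Group G] {D : Set G} {a c : G} {F : Type*} [Field F] [Fintype F]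

/-- The members not commuting with `x`. -/
def nc (D : Set G) (x : G) : Set G := {y | y ∈ D ∧ ¬ Commute y x}

/-- A base with a linear labelling. -/
structure Co (D : Set G) (a c : G) (l : G → G → F) : Prop where
  base : Base D a c
  lab : Label D a c l
  card4 : Fintype.card F = 4
  lin : ∀ p ∈ line D a c, ∀ r ∈ line D a c, ∀ t, th D a l r p t = th D a l r p 1 * t

/-- The vector of a point of the base. -/
noncomputable def ev (D : Set G) (a c : G) (l : G → G → F) (p : ↥(line D a c)) :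
    ↥(line D a c) → F := fun r => th D a l r p 1

/-- The space of translations. -/
noncomputable def span (D : Set G) (a c : G) (l : G → G → F) :
    Submodule F (↥(line D a c) → F) := Submodule.span F (Set.range (ev D a c l))

/-- The hermitian form on functions. -/
noncomputable def hm [Finite G] (D : Set G) (a c : G) (l : G → G → F)
    (w w' : ↥(line D a c) → F) : F := by
  classical
  haveI := Fintype.ofFinite ↥(line D a c)
  exact if h : ∃ f : ↥(line D a c) → F, ∑ p, f p • ev D a c l p = w' then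
    ∑ p, (h.choose p) ^ 2 * w p else 0

/-- The coordinate of a member not commuting with `a`. -/
noncomputable def vA (D : Set G) (a c : G) (l : G → G → F) (x : G) : ↥(line D a c) → F :=
  fun r => by classical exact if h : ∃ q ∈ fib D a r, Commute x q then l r h.choose else 0

namespace Co

variable [Finite G] {l : G → G → F} (C : Co D a c l)
include C

theorem c_mem : c ∈ nc D a := ⟨C.base.hc, fun e => C.base.nac e.symm⟩

theorem vA_eq {x q : G} (hx : x ∈ nc D a) (r : ↥(line D a c)) (hq : q ∈ fib D a r)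
    (hxq : Commute x q) : vA D a c l x r = l r q := by
  have h : ∃ q ∈ fib D a r, Commute x q := ⟨q, hq, hxq⟩
  rw [vA, dif_pos h]
  obtain ⟨q₀, -, -, huniq⟩ := C.base.hit_fib hx.1 hx.2 r.2
  rw [huniq _ h.choose_spec.1 h.choose_spec.2, huniq q hq hxq]

theorem vA_iff {x q : G} (hx : x ∈ nc D a) (r : ↥(line D a c)) (hq : q ∈ fib D a r) :
    Commute x q ↔ vA D a c l x r = l r q := by
  refine ⟨C.vA_eq hx r hq, fun h => ?_⟩
  obtain ⟨q₀, hq₀, hxq₀, -⟩ := C.base.hit_fib hx.1 hx.2 r.2
  rw [C.vA_eq hx r hq₀ hxq₀] at h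
  rwa [C.lab.inj r r.2 hq hq₀ h.symm]

theorem vA_base {x : G} (hx : x ∈ nc D a) (r : ↥(line D a c)) :
    vA D a c l x r = 0 ↔ Commute x r := by
  rw [C.vA_iff hx r (C.base.self_mem r.2), C.lab.zero r r.2]

theorem vA_c : vA D a c l c = 0 := funext fun r => (C.vA_base C.c_mem r).2 r.2.2.2.symm

theorem axa_mem {x : G} (hx : x ∈ nc D a) : a * x * a ∈ nc D a :=
  ⟨C.base.pre.conj_mem' C.base.ha hx.1, fun e => hx.2 ((Base.commute_conj_iff C.base.pre.set
    C.base.ha (Commute.refl a)).1 e.symm).symm⟩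

theorem axa_ne {x : G} (hx : x ∈ nc D a) : a * x * a ≠ x :=
  conj_ne_right C.base.pre.set C.base.ha fun e => hx.2 e.symm

theorem vA_axa {x : G} (hx : x ∈ nc D a) : vA D a c l (a * x * a) = vA D a c l x := by
  funext r
  obtain ⟨q, hq, hxq, -⟩ := C.base.hit_fib hx.1 hx.2 r.2
  have hqa : Commute a q := ((C.base.fib_mem r.2 hq).2.2).symm
  rw [C.vA_eq hx r hq hxq, C.vA_eq (C.axa_mem hx) r hq ((hqa.mul_left hxq).mul_left hqa)]

theorem th_smul (p r : ↥(line D a c)) (t : F) :
    th D a l r p t = (t • ev D a c l p) r := by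
  rw [C.lin p p.2 r r.2, Pi.smul_apply, smul_eq_mul, mul_comm]; rfl

theorem ev_eq_zero {p r : ↥(line D a c)} : ev D a c l p r = 0 ↔ Commute (p : G) r := by
  show th D a l r p 1 = 0 ↔ _
  rw [C.base.th_eq_zero C.lab p.2 r.2]
  simp

theorem ev_self (p : ↥(line D a c)) : ev D a c l p p = 0 := C.ev_eq_zero.2 (Commute.refl _)

theorem ev_symm (p r : ↥(line D a c)) : ev D a c l p r = (ev D a c l r p) ^ 2 := by
  by_cases h : Commute (p : G) r
  · rw [C.ev_eq_zero.2 h, C.ev_eq_zero.2 h.symm]; simp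
  have h1 := C.base.th_symm C.lab p.2 r.2 h 1
  rw [C.lin r r.2 p p.2] at h1
  have hne : ev D a c l r p ≠ 0 := fun e => h (C.ev_eq_zero.1 e).symm
  rw [← GF4.inv_eq_sq C.card4 hne]
  exact eq_inv_of_mul_eq_one_right h1

theorem eq_of_zeros {r r' : ↥(line D a c)}
    (h : ∀ s : ↥(line D a c), Commute (r : G) s ↔ Commute (r' : G) s) : r = r' := by
  by_contra hne
  have B := C.base
  have hrr : Commute (r' : G) r := (h r).1 (Commute.refl _)
  have hne' : (r' : G) ≠ r := fun e => hne (Subtype.ext e.symm)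
  have hsub : line D a r ⊆ line D a r' := by
    rintro z ⟨hz, hza, hzr⟩
    refine ⟨hz, hza, ?_⟩
    rcases eq_or_ne z a with rfl | hza'
    · exact r'.2.2.1.symm
    obtain ⟨p, hp, hzp⟩ := B.fib_cover ⟨hz, hza', hza.symm⟩
    exact (B.fib_commute hp r'.2 hzp (B.self_mem r'.2)).2
      ((h ⟨p, hp⟩).1 ((B.fib_commute hp r.2 hzp (B.self_mem r.2)).1 hzr).symm).symm
  have heq := Set.eq_of_subset_of_ncard_le hsub (le_of_eq (SolvLocal.ncard_line_eq B.pre.rad
    B.pre.cls B.ha r'.2.1 B.ha r.2.1 r'.2.2.1.symm r.2.2.1.symm (B.ne_a r'.2) (B.ne_a r.2)))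
    (Set.toFinite _)
  have hm : (r' : G) ∈ pts D a r :=
    ⟨⟨r'.2.1, r'.2.2.1, hrr⟩, Or.inr heq.symm⟩
  exact hne' (B.eq_of_commute r.2 ⟨hm, fun e => B.ne_a r'.2 (Set.mem_singleton_iff.1 e).symm⟩
    r'.2.2.2.symm)

/-! ### the form -/

theorem hm_eq {w : ↥(line D a c) → F} (hw : w ∈ span D a c l) [Fintype ↥(line D a c)]
    (f : ↥(line D a c) → F) :
    hm D a c l w (∑ p, f p • ev D a c l p) = ∑ p, (f p) ^ 2 * w p := by
  obtain ⟨g, rfl⟩ := (Submodule.mem_span_range_iff_exists_fun F).1 hw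
  have hinst : Fintype.ofFinite ↥(line D a c) = ‹Fintype ↥(line D a c)› := Subsingleton.elim _ _
  have hex : ∃ f' : ↥(line D a c) → F, ∑ p, f' p • ev D a c l p = ∑ p, f p • ev D a c l p := ⟨f, rfl⟩
  unfold hm
  rw [hinst, dif_pos hex]
  have hsum := hex.choose_spec
  set f' := hex.choose
  have key : ∀ f₁ : ↥(line D a c) → F,
      ∑ p, (f₁ p) ^ 2 * (∑ q, g q • ev D a c l q) p =
        ∑ q, g q * ((∑ p, f₁ p • ev D a c l p) q) ^ 2 := by
    intro f₁
    simp only [Finset.sum_apply, Pi.smul_apply, smul_eq_mul, Finset.mul_sum]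
    rw [Finset.sum_comm]
    refine Finset.sum_congr rfl fun q _ => ?_
    rw [Cfsg.Agent.Unitary.sum_pow_q (Cfsg.Agent.U62Cover.card_sq C.card4), Finset.mul_sum]
    refine Finset.sum_congr rfl fun p _ => ?_
    rw [mul_pow, C.ev_symm q p]
    ring
  rw [key, key, hsum]

theorem hm_smul_ev {w : ↥(line D a c) → F} (hw : w ∈ span D a c l) (t : F) (p : ↥(line D a c)) :
    hm D a c l w (t • ev D a c l p) = t ^ 2 * w p := by
  classical
  haveI := Fintype.ofFinite ↥(line D a c)
  have e : t • ev D a c l p = ∑ q, (Pi.single p t : ↥(line D a c) → F) q • ev D a c l q := by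
    rw [Finset.sum_eq_single p (fun q _ hq => by simp [hq]) (by simp)]
    simp
  rw [e, C.hm_eq hw, Finset.sum_eq_single p (fun q _ hq => by simp [hq]) (by simp)]
  simp

theorem hm_ev {w : ↥(line D a c) → F} (hw : w ∈ span D a c l) (p : ↥(line D a c)) :
    hm D a c l w (ev D a c l p) = w p := by
  simpa using C.hm_smul_ev hw 1 p

omit C in
theorem ev_mem (p : ↥(line D a c)) : ev D a c l p ∈ span D a c l :=
  Submodule.subset_span ⟨p, rfl⟩

theorem isHerm : Unitary.IsHerm 2 (fun w w' : ↥(span D a c l) => hm D a c l (w : _ → F) w') := by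
  classical
  haveI := Fintype.ofFinite ↥(line D a c)
  have rep : ∀ w : ↥(span D a c l), ∃ f : ↥(line D a c) → F, ∑ p, f p • ev D a c l p = (w : _ → F) :=
    fun w => (Submodule.mem_span_range_iff_exists_fun F).1 w.2
  refine ⟨fun x y z => ?_, fun t x z => ?_, fun x y => ?_⟩
  · obtain ⟨f, hf⟩ := rep z
    simp only [← hf]
    rw [C.hm_eq (x + y).2, C.hm_eq x.2, C.hm_eq y.2, ← Finset.sum_add_distrib]
    refine Finset.sum_congr rfl fun p _ => ?_
    simp [mul_add]
  · obtain ⟨f, hf⟩ := rep z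
    simp only [← hf]
    rw [C.hm_eq (t • x).2, C.hm_eq x.2, Finset.mul_sum]
    refine Finset.sum_congr rfl fun p _ => ?_
    simp; ring
  · obtain ⟨f, hf⟩ := rep x
    obtain ⟨g, hg⟩ := rep y
    show hm D a c l (y : _ → F) x = (hm D a c l (x : _ → F) y) ^ 2
    conv_lhs => rw [← hf]
    conv_rhs => rw [← hg]
    rw [C.hm_eq y.2, C.hm_eq x.2, ← hf, ← hg]
    simp only [Finset.sum_apply, Pi.smul_apply, smul_eq_mul, Finset.mul_sum,
      Cfsg.Agent.Unitary.sum_pow_q (Cfsg.Agent.U62Cover.card_sq C.card4)]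
    rw [Finset.sum_comm]
    refine Finset.sum_congr rfl fun q _ => Finset.sum_congr rfl fun p _ => ?_
    rw [C.ev_symm q p]
    simp only [mul_pow, GF4.sq_sq C.card4]
    ring

theorem nondeg' {w : ↥(span D a c l)} (h : ∀ z : ↥(span D a c l), hm D a c l (w : _ → F) z = 0) :
    w = 0 := by
  apply Subtype.ext
  funext p
  have := h ⟨ev D a c l p, ev_mem p⟩
  rwa [C.hm_ev w.2] at this

/-! ### translations -/

omit C in
/-- An element translating every fibre by `w`. -/
def Shift (D : Set G) (a c : G) (l : G → G → F) (g : G) (w : ↥(line D a c) → F) : Prop :=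
  Commute g a ∧ ∀ (r : ↥(line D a c)), ∀ q ∈ fib D a r,
    g * q * g⁻¹ ∈ fib D a r ∧ l r (g * q * g⁻¹) = l r q + w r

omit C in
theorem Shift.mul {g g' : G} {w w' : ↥(line D a c) → F} (h : Shift D a c l g w)
    (h' : Shift D a c l g' w') : Shift D a c l (g * g') (w + w') := by
  refine ⟨h.1.mul_left h'.1, fun r q hq => ?_⟩
  have e : g * g' * q * (g * g')⁻¹ = g * (g' * q * g'⁻¹) * g⁻¹ := by group
  obtain ⟨m1, m2⟩ := h'.2 r q hq
  obtain ⟨n1, n2⟩ := h.2 r _ m1
  rw [e]
  exact ⟨n1, by rw [n2, m2, Pi.add_apply]; ring⟩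

theorem shift_a : Shift D a c l a 0 := by
  refine ⟨Commute.refl a, fun r q hq => ?_⟩
  rw [conj_fix (C.base.fib_mem r.2 hq).2.2.symm]
  exact ⟨hq, by simp⟩

omit C in
theorem shift_one : Shift D a c l 1 0 :=
  ⟨Commute.one_left a, fun r q hq => by simpa using hq⟩

theorem shift_tr (p : ↥(line D a c)) (t : F) :
    Shift D a c l (tr D a l p t) (t • ev D a c l p) := by
  refine ⟨(C.base.tr_comm C.lab p.2 t).2.1, fun r q hq => ⟨C.base.tr_mem C.lab p.2 r.2 t hq, ?_⟩⟩
  rw [C.base.translate C.lab C.card4 p.2 r.2 t hq, C.th_smul]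

theorem shift_all {w : ↥(line D a c) → F} (hw : w ∈ span D a c l) :
    ∃ g, Shift D a c l g w := by
  suffices ∀ t : F, ∃ g, Shift D a c l g (t • w) by simpa using this 1
  induction hw using Submodule.span_induction with
  | mem x hx => obtain ⟨p, rfl⟩ := hx; exact fun t => ⟨_, C.shift_tr p t⟩
  | zero => exact fun t => ⟨1, by rw [smul_zero]; exact shift_one⟩
  | add x y _ _ hx hy =>
    intro t
    obtain ⟨g, hg⟩ := hx t
    obtain ⟨g', hg'⟩ := hy t
    exact ⟨g * g', by rw [smul_add]; exact hg.mul hg'⟩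
  | smul s x _ hx => intro t; rw [smul_smul]; exact hx _

theorem shift_vA {g x : G} {w : ↥(line D a c) → F} (hg : Shift D a c l g w) (hx : x ∈ nc D a) :
    g * x * g⁻¹ ∈ nc D a ∧ vA D a c l (g * x * g⁻¹) = vA D a c l x + w := by
  have hm' : g * x * g⁻¹ ∈ nc D a := ⟨C.base.pre.conj g x hx.1, fun e => hx.2 (of_cmap g (by
    rwa [conj_fix hg.1]))⟩
  refine ⟨hm', funext fun r => ?_⟩
  obtain ⟨q, hq, hxq, -⟩ := C.base.hit_fib hx.1 hx.2 r.2
  obtain ⟨m1, m2⟩ := hg.2 r q hq
  rw [C.vA_eq hm' r m1 (cmap g hxq), m2, Pi.add_apply, C.vA_eq hx r hq hxq]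

theorem exists_vA {w : ↥(line D a c) → F} (hw : w ∈ span D a c l) :
    ∃ x ∈ nc D a, vA D a c l x = w := by
  obtain ⟨g, hg⟩ := C.shift_all hw
  obtain ⟨h1, h2⟩ := C.shift_vA hg C.c_mem
  exact ⟨_, h1, by rw [h2, C.vA_c, zero_add]⟩

/-- The pairs `(w, bit)` embedded in the members not commuting with `a`. -/
noncomputable def emb (x : ↥(span D a c l) × Bool) : ↥(nc D a) :=
  if x.2 then ⟨a * (C.exists_vA x.1.2).choose * a, C.axa_mem (C.exists_vA x.1.2).choose_spec.1⟩
  else ⟨(C.exists_vA x.1.2).choose, (C.exists_vA x.1.2).choose_spec.1⟩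

theorem vA_emb (x : ↥(span D a c l) × Bool) : vA D a c l (C.emb x : G) = x.1 := by
  have h := (C.exists_vA x.1.2).choose_spec
  unfold emb
  split_ifs
  · exact (C.vA_axa h.1).trans h.2
  · exact h.2

theorem emb_injective : Function.Injective C.emb := by
  rintro ⟨w, b⟩ ⟨w', b'⟩ e
  obtain rfl : w = w' := Subtype.ext (by
    have h1 := C.vA_emb (w, b)
    rw [e, C.vA_emb] at h1
    exact h1.symm)
  have hne := C.axa_ne (C.exists_vA w.2).choose_spec.1
  cases b <;> cases b' <;> simp [emb] at e ⊢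
  · exact absurd e.symm hne
  · exact absurd e hne

theorem card_le : 2 * Nat.card ↥(span D a c l) ≤ (nc D a).ncard := by
  rw [← Nat.card_coe_set_eq]
  have := Nat.card_le_card_of_injective C.emb C.emb_injective
  rwa [Nat.card_prod, Nat.card_eq_fintype_card (α := Bool), Fintype.card_bool, mul_comm] at this

/-! ### isotropic vectors -/

/-- The vectors with coordinate one at `p`. -/
abbrev Aff (D : Set G) (a c : G) (l : G → G → F) (p : ↥(line D a c)) : Type _ :=
  {w : ↥(span D a c l) // (w : ↥(line D a c) → F) p = 1}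

/-- The isotropic ones. -/
abbrev AffIso (D : Set G) [Finite G] (a c : G) (l : G → G → F) (p : ↥(line D a c)) : Type _ :=
  {w : ↥(span D a c l) // (w : ↥(line D a c) → F) p = 1 ∧ hm D a c l (w : _ → F) w = 0}

theorem exists_noncomm (p : ↥(line D a c)) : ∃ r : ↥(line D a c), ¬ Commute (r : G) p := by
  obtain ⟨r, hr, hrp⟩ := C.base.pre.nondeg C.base.ha C.base.hc C.base.nac p.2
  exact ⟨⟨r, hr⟩, hrp⟩

theorem card_aff (p : ↥(line D a c)) :
    Nat.card ↥(span D a c l) = 4 * Nat.card (Aff D a c l p) := by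
  obtain ⟨r, hr⟩ := C.exists_noncomm p
  have hne : ev D a c l r p ≠ 0 := fun e => hr (C.ev_eq_zero.1 e)
  let z : ↥(span D a c l) := (ev D a c l r p)⁻¹ • ⟨ev D a c l r, ev_mem r⟩
  have hz : (z : ↥(line D a c) → F) p = 1 := by
    simp [z, inv_mul_cancel₀ hne]
  let e : ↥(span D a c l) ≃ Aff D a c l p × F :=
    { toFun := fun w => (⟨w + (1 - (w : ↥(line D a c) → F) p) • z, by
        simp [hz]⟩, (w : ↥(line D a c) → F) p)
      invFun := fun x => x.1.1 - (1 - x.2) • z
      left_inv := fun w => by simp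
      right_inv := fun x => by
        obtain ⟨⟨w, hw⟩, t⟩ := x
        have h1 : ((w - (1 - t) • z : ↥(span D a c l)) : ↥(line D a c) → F) p = t := by
          simp [hz, hw]
        refine Prod.ext (Subtype.ext ?_) h1
        simp only [h1]
        abel }
  rw [Nat.card_congr e, Nat.card_prod, Nat.card_eq_fintype_card (α := F), C.card4, mul_comm]

theorem card_affIso (p : ↥(line D a c)) :
    Nat.card (Aff D a c l p) = 2 * Nat.card (AffIso D a c l p) := by
  classical
  obtain ⟨ω, hω0, hω⟩ := Cfsg.Agent.U62Cover.exists_omega C.card4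
  have hF2 := Cfsg.Agent.U62Cover.card_sq C.card4
  have H := C.isHerm
  set ep : ↥(span D a c l) := ω • ⟨ev D a c l p, ev_mem p⟩ with hep
  have epp : (ep : ↥(line D a c) → F) p = 0 := by simp [hep, C.ev_self]
  have flip : ∀ w : ↥(span D a c l), (w : ↥(line D a c) → F) p = 1 →
      ((w + ep : ↥(span D a c l)) : ↥(line D a c) → F) p = 1 ∧
      hm D a c l ((w + ep : ↥(span D a c l)) : _ → F) ((w + ep : ↥(span D a c l)) : _ → F) =
        hm D a c l (w : _ → F) w + 1 := by
    intro w hw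
    refine ⟨by rw [Submodule.coe_add, Pi.add_apply, hw, epp, add_zero], ?_⟩
    have e1 : hm D a c l (w : _ → F) ep = ω ^ 2 := by
      rw [hep, Submodule.coe_smul, C.hm_smul_ev w.2, hw, mul_one]
    have e2 : hm D a c l (ep : _ → F) w = ω := by
      rw [show hm D a c l (ep : _ → F) w = (hm D a c l (w : _ → F) ep) ^ 2 from H.conj_symm w ep, e1,
        GF4.sq_sq C.card4]
    have e3 : hm D a c l (ep : _ → F) ep = 0 := by
      have := C.hm_smul_ev ep.2 ω p
      rwa [epp, mul_zero] at this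
    have h1 : hm D a c l ((w + ep : ↥(span D a c l)) : _ → F) ((w + ep : ↥(span D a c l)) : _ → F) =
        hm D a c l (w : _ → F) ((w + ep : ↥(span D a c l)) : _ → F) +
          hm D a c l (ep : _ → F) ((w + ep : ↥(span D a c l)) : _ → F) := H.add_left w ep (w + ep)
    have h2 : hm D a c l (w : _ → F) ((w + ep : ↥(span D a c l)) : _ → F) =
        hm D a c l (w : _ → F) w + hm D a c l (w : _ → F) ep := H.add_right hF2 w w ep
    have h3 : hm D a c l (ep : _ → F) ((w + ep : ↥(span D a c l)) : _ → F) =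
        hm D a c l (ep : _ → F) w + hm D a c l (ep : _ → F) ep := H.add_right hF2 ep w ep
    rw [h1, h2, h3, e1, e2, e3, hω]
    linear_combination ω * Cfsg.Agent.U62Cover.two_eq_zero C.card4
  have hfix : ∀ w : ↥(span D a c l), hm D a c l (w : _ → F) w = 0 ∨ hm D a c l (w : _ → F) w = 1 := by
    intro w
    by_cases h0 : hm D a c l (w : _ → F) w = 0
    · exact Or.inl h0
    · exact Or.inr (Cfsg.Agent.U62Cover.fixed_eq_one C.card4 (H.self_fixed w) h0)
  let f : AffIso D a c l p × Bool → Aff D a c l p := fun x =>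
    if x.2 then ⟨x.1.1 + ep, (flip x.1.1 x.1.2.1).1⟩ else ⟨x.1.1, x.1.2.1⟩
  have hf : Function.Bijective f := by
    constructor
    · rintro ⟨⟨w, hw, hw0⟩, b⟩ ⟨⟨w', hw', hw0'⟩, b'⟩ e
      have key : ∀ {u u' : ↥(span D a c l)}, (u : ↥(line D a c) → F) p = 1 →
          hm D a c l (u : _ → F) u = 0 → hm D a c l (u' : _ → F) u' = 0 → u + ep ≠ u' := by
        intro u u' hu h0 h0' e
        have := (flip u hu).2
        rw [e, h0, h0', zero_add] at this
        exact zero_ne_one this
      cases b <;> cases b' <;> simp [f] at e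
      · exact Prod.ext (Subtype.ext e) rfl
      · exact absurd e.symm (key hw' hw0' hw0)
      · exact absurd e (key hw hw0 hw0')
      · exact Prod.ext (Subtype.ext e) rfl
    · rintro ⟨w, hw⟩
      rcases hfix w with h0 | h1
      · exact ⟨(⟨w, hw, h0⟩, false), by simp [f]⟩
      · refine ⟨(⟨w + ep, (flip w hw).1, ?_⟩, true), Subtype.ext ?_⟩
        · rw [(flip w hw).2, h1, Cfsg.Agent.U62Cover.add_self C.card4]
        · simp only [f, if_true]
          apply Subtype.ext; funext i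
          simp [GF4.add_cancel C.card4]
  rw [← Nat.card_congr (Equiv.ofBijective f hf), Nat.card_prod,
    Nat.card_eq_fintype_card (α := Bool), Fintype.card_bool, mul_comm]

/-- The points of the base not commuting with `p`, as isotropic vectors. -/
noncomputable def toIso (p : ↥(line D a c)) (r : {r : ↥(line D a c) // ¬ Commute (r : G) p}) :
    AffIso D a c l p :=
  ⟨(ev D a c l r.1 p)⁻¹ • ⟨ev D a c l r.1, ev_mem r.1⟩, by
    have hne : ev D a c l r.1 p ≠ 0 := fun e => r.2 (C.ev_eq_zero.1 e)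
    refine ⟨by simp [inv_mul_cancel₀ hne], ?_⟩
    rw [Submodule.coe_smul, C.hm_smul_ev (Submodule.smul_mem _ _ (ev_mem r.1))]
    simp [C.ev_self]⟩

theorem toIso_injective (p : ↥(line D a c)) : Function.Injective (C.toIso p) := by
  intro r r' e
  apply Subtype.ext
  refine C.eq_of_zeros fun s => ?_
  have h1 := congrFun (congrArg (fun w : AffIso D a c l p => (w.1 : ↥(line D a c) → F)) e) s
  simp only [toIso, Submodule.coe_smul, Pi.smul_apply, smul_eq_mul] at h1
  have hne : ev D a c l r.1 p ≠ 0 := fun e => r.2 (C.ev_eq_zero.1 e)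
  have hne' : ev D a c l r'.1 p ≠ 0 := fun e => r'.2 (C.ev_eq_zero.1 e)
  rw [← C.ev_eq_zero, ← C.ev_eq_zero]
  constructor <;> intro h
  · rw [h, mul_zero] at h1
    exact ((mul_eq_zero.1 h1.symm).resolve_left (inv_ne_zero hne'))
  · rw [h, mul_zero] at h1
    exact ((mul_eq_zero.1 h1).resolve_left (inv_ne_zero hne))

theorem ncard_adj_off (p : ↥(line D a c)) :
    {q | q ∈ adj D a ∧ ¬ Commute q p}.ncard =
      4 * Nat.card {r : ↥(line D a c) // ¬ Commute (r : G) p} := by
  rw [← Nat.card_coe_set_eq]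
  let f : {r : ↥(line D a c) // ¬ Commute (r : G) p} × F → {q | q ∈ adj D a ∧ ¬ Commute q p} :=
    fun x => ⟨pt D a l x.1.1 x.2, by
      have h := (C.base.pt_spec C.lab x.1.1.2 x.2).1
      obtain ⟨h1, h2, h3⟩ := C.base.fib_mem x.1.1.2 h
      exact ⟨⟨h1, h2, h3.symm⟩, fun e =>
        x.1.2 ((C.base.fib_commute x.1.1.2 p.2 h (C.base.self_mem p.2)).1 e)⟩⟩
  have hf : Function.Bijective f := by
    constructor
    · rintro ⟨⟨r, hr⟩, t⟩ ⟨⟨r', hr'⟩, t'⟩ e
      have e' : pt D a l r t = pt D a l r' t' := congrArg Subtype.val e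
      have h := C.base.pt_spec C.lab r.2 t
      have h' := C.base.pt_spec C.lab r'.2 t'
      obtain rfl : r = r' := Subtype.ext (C.base.fib_eq r.2 r'.2 h.1 (e' ▸ h'.1))
      obtain rfl : t = t' := by rw [← h.2, e', h'.2]
      rfl
    · rintro ⟨q, hq, hqp⟩
      obtain ⟨r, hr, hqr⟩ := C.base.fib_cover hq
      refine ⟨(⟨⟨r, hr⟩, fun e => hqp ((C.base.fib_commute hr p.2 hqr (C.base.self_mem p.2)).2 e)⟩,
        l r q), Subtype.ext ?_⟩
      exact C.base.pt_eq C.lab hr hqr
  rw [← Nat.card_congr (Equiv.ofBijective f hf), Nat.card_prod,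
    Nat.card_eq_fintype_card (α := F), C.card4, mul_comm]

/-- The bound on the neighbours of `a` not commuting with a given one. -/
theorem bound (p : ↥(line D a c)) :
    4 * {q | q ∈ adj D a ∧ ¬ Commute q p}.ncard ≤ 2 * Nat.card ↥(span D a c l) := by
  rw [C.ncard_adj_off, C.card_aff p, C.card_affIso p]
  have := Nat.card_le_card_of_injective _ (C.toIso_injective p)
  omega

theorem card_adj : (adj D a).ncard = 4 * (line D a c).ncard := by
  rw [← Nat.card_coe_set_eq, ← Nat.card_coe_set_eq]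
  let f : ↥(line D a c) × F → ↥(adj D a) := fun x => ⟨pt D a l x.1 x.2, by
    obtain ⟨h1, h2, h3⟩ := C.base.fib_mem x.1.2 (C.base.pt_spec C.lab x.1.2 x.2).1
    exact ⟨h1, h2, h3.symm⟩⟩
  have hf : Function.Bijective f := by
    constructor
    · rintro ⟨r, t⟩ ⟨r', t'⟩ e
      have e' : pt D a l r t = pt D a l r' t' := congrArg Subtype.val e
      have h := C.base.pt_spec C.lab r.2 t
      have h' := C.base.pt_spec C.lab r'.2 t'
      obtain rfl : r = r' := Subtype.ext (C.base.fib_eq r.2 r'.2 h.1 (e' ▸ h'.1))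
      obtain rfl : t = t' := by rw [← h.2, e', h'.2]
      rfl
    · rintro ⟨q, hq⟩
      obtain ⟨r, hr, hqr⟩ := C.base.fib_cover hq
      exact ⟨(⟨r, hr⟩, l r q), Subtype.ext (C.base.pt_eq C.lab hr hqr)⟩
  rw [← Nat.card_congr (Equiv.ofBijective f hf), Nat.card_prod,
    Nat.card_eq_fintype_card (α := F), C.card4, mul_comm]

end Co

end Cfsg.Agent.ThreeTrans.Polar
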