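/-
Double counting: the translations are transitive and every isotropic vector comes from a point.

Main results: `Co.card_nc`, `Co.vA_mem`, `Co.vA_inj`, `Co.exists_iso_point`.
-/
import Cfsg.Agent.Lib.ThreeTrans.Polar.Space

set_option autoImplicit false

namespace Cfsg.Agent.ThreeTrans.Polar

open Cfsg Cfsg.Agent.ThreeTransRank Cfsg.Agent.ThreeTrans
open Cfsg.Agent.ThreeTrans.SolvLocal (line cmap of_cmap conj_fix commute_of_fix)

variable {G : Type*} [Group G] {D : Set G} {a c : G} {F : Type*} [Field F] [Fintype F]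

theorem exists_co [Finite G] (B : Base D a c) (hF : Fintype.card F = 4) :
    ∃ l : G → G → F, Co D a c l := by
  obtain ⟨l, L, hlin⟩ := B.exists_linear_label (F := F) hF
  exact ⟨l, B, L, hF, hlin⟩

theorem ncard_nc_eq (hD : IsThreeTranspositionClass D) {x y : G} (hx : x ∈ D) (hy : y ∈ D) :
    (nc D x).ncard = (nc D y).ncard := by
  obtain ⟨g, rfl⟩ := class_conj hD hx hy
  have hconj := (group_of_class hD).2.1
  have e : nc D (g * x * g⁻¹) = (fun z => g * z * g⁻¹) '' nc D x := by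
    ext z
    constructor
    · rintro ⟨hz, hzn⟩
      refine ⟨g⁻¹ * z * g, ⟨by simpa using hconj g⁻¹ z hz, fun hc => hzn ?_⟩, by group⟩
      simpa [mul_assoc] using cmap g hc
    · rintro ⟨u, ⟨hu, hun⟩, rfl⟩
      exact ⟨hconj g u hu, fun hc => hun (of_cmap g hc)⟩
  rw [e, Set.ncard_image_of_injective _ fun u v h => mul_left_cancel (mul_right_cancel h)]

/-- In the double count every term is maximal. -/
theorem count_eq [Finite G] (B : Base D a c) (hF : Fintype.card F = 4) {p q : G} (hp : p ∈ D)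
    (hq : q ∈ adj D p) : 4 * {y | y ∈ adj D q ∧ ¬ Commute y p}.ncard = (nc D p).ncard := by
  classical
  haveI := Fintype.ofFinite G
  have h := B.pre
  set T : G → Finset G := fun u => Finset.univ.filter fun y => y ∈ adj D u ∧ ¬ Commute y p with hT
  set S : Finset G := Finset.univ.filter fun u => u ∈ adj D p with hS
  set A : Finset G := Finset.univ.filter fun y => y ∈ nc D p with hA
  have hTc : ∀ u, (T u).card = {y | y ∈ adj D u ∧ ¬ Commute y p}.ncard := by
    intro u; rw [Set.ncard_eq_toFinset_card']; simp [hT]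
  have hAc : A.card = (nc D p).ncard := by rw [Set.ncard_eq_toFinset_card']; simp [hA]
  have hSc : S.card = (adj D p).ncard := by rw [Set.ncard_eq_toFinset_card']; simp [hS]
  obtain ⟨c₀, hc₀, hpc₀⟩ := exists_not_commute h.cls h.two hp
  obtain ⟨l₀, C₀⟩ := exists_co (F := F) ⟨h, B.size, hp, hc₀, hpc₀⟩ hF
  have hSN : S.card = 4 * (line D p c₀).ncard := by rw [hSc, C₀.card_adj]
  -- each term is bounded
  have hbound : ∀ u ∈ S, 4 * (T u).card ≤ A.card := by
    intro u hu
    have hu' : u ∈ adj D p := by simpa [hS] using hu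
    obtain ⟨d, hd, hdp, hdu⟩ := h.exists_off hp hu'.1 hu'.2.1.symm
    obtain ⟨l, C⟩ := exists_co (F := F)
      (⟨h, B.size, hu'.1, hd, fun e => hdu e.symm⟩ : Base D u d) hF
    have hb := C.bound ⟨p, hp, hu'.2.2, hdp.symm⟩
    rw [hTc, hAc, ncard_nc_eq h.cls hp hu'.1]
    exact hb.trans C.card_le
  -- the double count
  have hsum : ∑ u ∈ S, (T u).card = A.card * (line D p c₀).ncard := by
    have e1 : ∑ u ∈ S, (T u).card = ∑ u ∈ S, (A.bipartiteAbove (fun u y => y ∈ adj D u) u).card := by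
      refine Finset.sum_congr rfl fun u hu => congrArg Finset.card ?_
      ext y
      simp only [hT, hA, Finset.mem_filter, Finset.mem_univ, true_and, Finset.mem_bipartiteAbove]
      exact ⟨fun hh => ⟨⟨hh.1.1, hh.2⟩, hh.1⟩, fun hh => ⟨hh.2, hh.1.2⟩⟩
    rw [e1, Finset.sum_card_bipartiteAbove_eq_sum_card_bipartiteBelow]
    rw [Finset.sum_congr rfl (g := fun _ => (line D p c₀).ncard), Finset.sum_const, smul_eq_mul]
    intro y hy
    have hy' : y ∈ nc D p := by simpa [hA] using hy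
    rw [h.ncard_line_nc hp hc₀ hpc₀ hp hy'.1 fun e => hy'.2 e.symm, Set.ncard_eq_toFinset_card']
    refine congrArg Finset.card ?_
    ext u
    simp only [hS, Finset.mem_bipartiteBelow, Finset.mem_filter, Finset.mem_univ, true_and,
      Set.mem_toFinset]
    constructor
    · rintro ⟨⟨h1, -, h3⟩, -, -, h4⟩
      exact ⟨h1, h3.symm, h4⟩
    · rintro ⟨h1, h2, h3⟩
      have n1 : u ≠ p := fun e => hy'.2 (e ▸ h3).symm
      have n2 : y ≠ u := fun e => hy'.2 (e ▸ h2)
      exact ⟨⟨h1, n1, h2.symm⟩, hy'.1, n2, h3⟩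
  have htot : ∑ u ∈ S, 4 * (T u).card = ∑ _u ∈ S, A.card := by
    rw [← Finset.mul_sum, hsum, Finset.sum_const, smul_eq_mul, hSN]; ring
  have := (Finset.sum_eq_sum_iff_of_le hbound).1 htot q (by simpa [hS] using hq)
  rw [← hTc, ← hAc]
  exact this

namespace Co

variable [Finite G] {l : G → G → F} (C : Co D a c l)
include C

theorem tight (p : ↥(line D a c)) :
    (nc D a).ncard = 2 * Nat.card ↥(span D a c l) ∧
      Nat.card {r : ↥(line D a c) // ¬ Commute (r : G) p} = Nat.card (AffIso D a c l p) := by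
  have h1 := count_eq C.base C.card4 p.2.1
    (⟨C.base.ha, C.base.ne_a p.2, p.2.2.1⟩ : a ∈ adj D p)
  rw [ncard_nc_eq C.base.pre.cls p.2.1 C.base.ha] at h1
  have h2 := C.ncard_adj_off p
  have h3 := C.card_aff p
  have h4 := C.card_affIso p
  have h5 := C.card_le
  have h6 := Nat.card_le_card_of_injective _ (C.toIso_injective p)
  omega

theorem card_nc : (nc D a).ncard = 2 * Nat.card ↥(span D a c l) := by
  obtain ⟨p, hp⟩ := C.base.pre.exists_common C.base.ha C.base.hc C.base.nac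
  exact (C.tight ⟨p, hp⟩).1

theorem emb_bijective : Function.Bijective C.emb := by
  refine C.emb_injective.bijective_of_nat_card_le ?_
  rw [Nat.card_prod, Nat.card_eq_fintype_card (α := Bool), Fintype.card_bool, Nat.card_coe_set_eq,
    C.card_nc, mul_comm]

theorem vA_mem {x : G} (hx : x ∈ nc D a) : vA D a c l x ∈ span D a c l := by
  obtain ⟨⟨w, b⟩, e⟩ := C.emb_bijective.2 ⟨x, hx⟩
  rw [show x = (C.emb (w, b) : G) by rw [e], C.vA_emb]
  exact w.2

theorem vA_inj {x y : G} (hx : x ∈ nc D a) (hy : y ∈ nc D a)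
    (h : vA D a c l x = vA D a c l y) : y = x ∨ y = a * x * a := by
  obtain ⟨⟨w, b⟩, ex⟩ := C.emb_bijective.2 ⟨x, hx⟩
  obtain ⟨⟨w', b'⟩, ey⟩ := C.emb_bijective.2 ⟨y, hy⟩
  have ex' : x = (C.emb (w, b) : G) := by rw [ex]
  have ey' : y = (C.emb (w', b') : G) := by rw [ey]
  obtain rfl : w = w' := Subtype.ext (by
    rw [ex', ey', C.vA_emb, C.vA_emb] at h; exact h)
  have hD := C.base.pre.set
  cases b <;> cases b' <;> simp only [emb, Bool.false_eq_true, if_false, if_true] at ex' ey'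
  · exact Or.inl (ey'.trans ex'.symm)
  · exact Or.inr (by rw [ex', ey'])
  · refine Or.inr ?_
    rw [ex', ey']
    simp only [mul_assoc, mul_self hD C.base.ha, mul_one, mul_self_cancel hD C.base.ha]
  · exact Or.inl (ey'.trans ex'.symm)

/-- Every non-zero isotropic vector is a multiple of the vector of a point. -/
theorem exists_iso_point {w : ↥(line D a c) → F} (hw : w ∈ span D a c l) (hne : w ≠ 0)
    (h0 : hm D a c l w w = 0) : ∃ r : ↥(line D a c), ∃ t : F, t ≠ 0 ∧ w = t • ev D a c l r := by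
  obtain ⟨p, hp⟩ := Function.ne_iff.1 hne
  simp only [Pi.zero_apply] at hp
  have hbij : Function.Bijective (C.toIso p) :=
    (C.toIso_injective p).bijective_of_nat_card_le (C.tight p).2.ge
  let u : ↥(span D a c l) := (w p)⁻¹ • ⟨w, hw⟩
  have hu1 : (u : ↥(line D a c) → F) p = 1 := by simp [u, inv_mul_cancel₀ hp]
  have hu0 : hm D a c l (u : _ → F) u = 0 := by
    have e1 : hm D a c l (u : _ → F) u = (w p)⁻¹ * hm D a c l w u :=
      C.isHerm.smul_left (w p)⁻¹ ⟨w, hw⟩ u
    have e2 : hm D a c l w u = ((w p)⁻¹) ^ 2 * hm D a c l w w :=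
      C.isHerm.smul_right (w p)⁻¹ ⟨w, hw⟩ ⟨w, hw⟩
    rw [e1, e2, h0, mul_zero, mul_zero]
  obtain ⟨r, hr⟩ := hbij.2 ⟨u, hu1, hu0⟩
  have hval := congrArg (fun z : AffIso D a c l p => (z.1 : ↥(line D a c) → F)) hr
  simp only [toIso, Submodule.coe_smul, u] at hval
  refine ⟨r.1, w p * (ev D a c l r.1 p)⁻¹, mul_ne_zero hp (inv_ne_zero fun e =>
    r.2 (C.ev_eq_zero.1 e)), ?_⟩
  rw [mul_smul, hval, ← mul_smul, mul_inv_cancel₀ hp, one_smul]

end Co

end Cfsg.Agent.ThreeTrans.Polar
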