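/-
Commuting members outside `a^⊥` and the conjugation exchanging `a` and `c`.

Main results: `Co.commute_c`, `Co.commute_nc`, `Co.exists_commute`, `Co.proportional`.
-/
import Cfsg.Agent.Lib.ThreeTrans.Polar.Count

set_option autoImplicit false

namespace Cfsg.Agent.ThreeTrans.Polar

open Cfsg Cfsg.Agent.ThreeTransRank Cfsg.Agent.ThreeTrans
open Cfsg.Agent.ThreeTrans.SolvLocal (line cmap of_cmap conj_fix commute_of_fix)

variable {G : Type*} [Group G] {D : Set G} {a c : G} {F : Type*} [Field F] [Fintype F]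

namespace Co

variable [Finite G] {l : G → G → F} (C : Co D a c l)
include C

theorem g_mem : a * c * a ∈ D := C.base.pre.conj_mem' C.base.ha C.base.hc

theorem g_conj (y : G) : (a * c * a) * y * (a * c * a)⁻¹ = a * c * a * y * (a * c * a) := by
  rw [inv_eq C.base.pre.set C.g_mem]

theorem g_a : a * c * a * a * (a * c * a) = c := by
  have hD := C.base.pre.set
  have hb := braid hD C.base.ha C.base.hc C.base.nac
  calc a * c * a * a * (a * c * a) = a * c * (a * a) * a * c * a := by simp only [mul_assoc]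
    _ = a * (c * a * c) * a := by
        rw [mul_self hD C.base.ha, mul_one]; simp only [mul_assoc]
    _ = c := by
        rw [← hb]; simp only [mul_assoc, mul_self hD C.base.ha, mul_one, mul_self_cancel hD C.base.ha]

theorem g_line (p : ↥(line D a c)) : a * c * a * p * (a * c * a) = p :=
  conj_conj_of_commute C.base.pre.set C.g_mem
    ((p.2.2.1.symm.mul_left p.2.2.2.symm).mul_left p.2.2.1.symm)

theorem g_invol (y : G) : a * c * a * (a * c * a * y * (a * c * a)) * (a * c * a) = y := by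
  calc a * c * a * (a * c * a * y * (a * c * a)) * (a * c * a)
      = (a * c * a * (a * c * a)) * y * (a * c * a * (a * c * a)) := by simp only [mul_assoc]
    _ = y := by rw [mul_self C.base.pre.set C.g_mem, one_mul, mul_one]

theorem g_pres {x : G} (hx : x ∈ nc D a) (hxc : ¬ Commute x c) :
    a * c * a * x * (a * c * a) ∈ nc D a := by
  refine ⟨C.base.pre.conj_mem' C.g_mem hx.1, fun e => hxc ?_⟩
  have := cmap (a * c * a) e
  rwa [C.g_conj, C.g_conj, C.g_invol, C.g_a] at this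

theorem g_commute {x : G} (hx : x ∈ D) (p : ↥(line D a c)) :
    Commute (a * c * a * x * (a * c * a)) p ↔ Commute x p := by
  constructor <;> intro e
  · have := cmap (a * c * a) e
    rwa [C.g_conj, C.g_conj, C.g_invol, C.g_line] at this
  · have := cmap (a * c * a) e
    rwa [C.g_conj, C.g_conj, C.g_line] at this

/-- The images of the points of a fibre. -/
theorem g_fib {p : ↥(line D a c)} {q : G} (hq : q ∈ fib D a p) (hne : q ≠ p) :
    a * c * a * q * (a * c * a) ∈ nc D a ∧ Commute (a * c * a * q * (a * c * a)) c ∧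
      vA D a c l (a * c * a * q * (a * c * a)) = l p q • ev D a c l p := by
  have hD := C.base.pre.set
  obtain ⟨hqD, -, hqa⟩ := C.base.fib_mem p.2 hq
  have hcq : ¬ Commute c q := fun e => hne (C.base.eq_of_commute p.2 hq e)
  have e1 : a * c * a * q * (a * c * a) = a * (c * q * c) * a := by
    calc a * c * a * q * (a * c * a) = a * c * (a * q * a) * c * a := by simp only [mul_assoc]
      _ = a * (c * q * c) * a := by
          rw [conj_conj_of_commute hD C.base.ha hqa.symm]; simp only [mul_assoc]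
  obtain ⟨hpq, -, hinv⟩ := C.base.tr_comm C.lab p.2 (l p q)
  rw [C.base.pt_eq C.lab p.2 hq] at hpq
  have e2 : tr D a l p (l p q) * c * (tr D a l p (l p q))⁻¹ = c * q * c := by
    rw [hinv, tr, C.base.pt_eq C.lab p.2 hq]
    calc (p : G) * q * c * (p * q) = p * (q * c * q) * p := by
          rw [congrArg (fun w => (p : G) * q * c * w) hpq.eq]; simp only [mul_assoc]
      _ = p * (c * q * c) * p := by rw [braid hD hqD C.base.hc fun e => hcq e.symm]
      _ = (p * c) * q * (c * p) := by simp only [mul_assoc]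
      _ = (c * p) * q * (p * c) := by rw [p.2.2.2.eq]
      _ = c * (p * q * p) * c := by simp only [mul_assoc]
      _ = c * q * c := by rw [conj_conj_of_commute hD p.2.1 hpq]
  obtain ⟨h1, h2⟩ := C.shift_vA (C.shift_tr p (l p q)) C.c_mem
  rw [e2] at h1 h2
  rw [C.vA_c, zero_add] at h2
  refine ⟨e1 ▸ C.axa_mem h1, ?_, by rw [e1, C.vA_axa h1, h2]⟩
  have := cmap (a * c * a) hqa
  rwa [C.g_conj, C.g_conj, C.g_a] at this

/-- The members outside `a^⊥` commuting with `c`. -/
theorem commute_c {y : G} (hy : y ∈ nc D a) (hyc : Commute y c) (hne : y ≠ c) :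
    ∃ p : ↥(line D a c), ∃ q ∈ fib D a p, l p q ≠ 0 ∧ y = a * c * a * q * (a * c * a) ∧
      vA D a c l y = l p q • ev D a c l p ∧ (p : G) ∈ pts D c y := by
  have h := C.base.pre
  have hD := h.set
  obtain ⟨p, hp, hap⟩ := h.hit C.base.hc hy.1 hne.symm hyc.symm C.base.ha
  have hpc : p ≠ c := fun e => C.base.nac (e ▸ hap)
  have hpy : p ≠ y := fun e => hy.2 (e ▸ hap).symm
  have hpN : p ∈ line D a c := ⟨hp.1.1, hap.symm, hp.1.2.1⟩
  have hy' : y ∈ pts D c p := by
    rw [h.pts_eq C.base.hc hy.1 hne.symm hyc.symm (left_mem_pts C.base.hc hyc.symm) hp hpc.symm]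
    exact right_mem_pts hy.1 hyc.symm
  have himg : pts D c p = (fun e => (a * c * a) * e * (a * c * a)⁻¹) '' pts D a p := by
    rw [← pts_conj h.conj, C.g_conj, C.g_conj, C.g_a, C.g_line ⟨p, hpN⟩]
  rw [himg] at hy'
  obtain ⟨q, hq, rfl⟩ := hy'
  simp only [C.g_conj] at *
  have hqa : q ≠ a := fun e => hne (by rw [e, C.g_a])
  have hqp : q ≠ p := fun e => hpy (by rw [e, C.g_line ⟨p, hpN⟩])
  have hqf : q ∈ fib D a (⟨p, hpN⟩ : ↥(line D a c)) := ⟨hq, fun e => hqa (Set.mem_singleton_iff.1 e)⟩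
  refine ⟨⟨p, hpN⟩, q, hqf, fun e => hqp ?_, rfl, (C.g_fib hqf hqp).2.2, hp⟩
  exact C.lab.inj p hpN hqf (C.base.self_mem hpN) (e.trans (C.lab.zero p hpN).symm)

theorem exists_shift_to {x : G} (hx : x ∈ nc D a) :
    ∃ g, Shift D a c l g (vA D a c l x) ∧ g * c * g⁻¹ = x := by
  obtain ⟨g, hg⟩ := C.shift_all (C.vA_mem hx)
  obtain ⟨h1, h2⟩ := C.shift_vA hg C.c_mem
  rw [C.vA_c, zero_add] at h2
  rcases C.vA_inj h1 hx h2 with e | e
  · exact ⟨g, hg, e.symm⟩
  · refine ⟨a * g, by simpa using C.shift_a.mul hg, ?_⟩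
    rw [e, mul_inv_rev, inv_eq C.base.pre.set C.base.ha]
    simp only [mul_assoc]

/-- Commuting members outside `a^⊥` differ by the vector of the point where their line meets it. -/
theorem commute_nc {x y : G} (hx : x ∈ nc D a) (hy : y ∈ nc D a) (hxy : Commute x y) (hne : x ≠ y) :
    ∃ p : ↥(line D a c), ∃ t : F, t ≠ 0 ∧ vA D a c l y = vA D a c l x + t • ev D a c l p ∧
      ∃ q ∈ fib D a p, q ∈ pts D x y ∧ l p q = vA D a c l x p := by
  obtain ⟨g, hg, rfl⟩ := C.exists_shift_to hx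
  set w := vA D a c l (g * c * g⁻¹) with hw
  set y' := g⁻¹ * y * g with hy'
  have hyy : g * y' * g⁻¹ = y := by rw [hy']; group
  have hy'm : y' ∈ nc D a := by
    refine ⟨by simpa [hy'] using C.base.pre.conj g⁻¹ y hy.1, fun e => hy.2 ?_⟩
    have := cmap g e
    rwa [hyy, conj_fix hg.1] at this
  have hc' : Commute y' c := of_cmap g (by rw [hyy]; exact hxy.symm)
  have hne' : y' ≠ c := fun e => hne (by rw [← hyy, e])
  obtain ⟨p, q, hq, hq0, -, hv, hp⟩ := C.commute_c hy'm hc' hne'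
  obtain ⟨-, h2⟩ := C.shift_vA hg hy'm
  rw [hyy, hv, add_comm] at h2
  obtain ⟨m1, m2⟩ := hg.2 p p (C.base.self_mem p.2)
  refine ⟨p, l p q, hq0, h2, g * p * g⁻¹, m1, ?_, by rw [m2, C.lab.zero p p.2, zero_add]⟩
  have := pts_conj C.base.pre.conj g c y'
  rw [hyy] at this
  rw [this]
  exact ⟨p, hp, rfl⟩

theorem not_commute_axa {x y : G} (hx : x ∈ nc D a) (hy : y ∈ nc D a) (hxy : Commute x y) :
    ¬ Commute x (a * y * a) := by
  intro e
  have hD := C.base.pre.set
  rw [← braid hD hy.1 C.base.ha hy.2] at e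
  exact hx.2 ((Base.commute_conj_iff hD hy.1 hxy).1 e)

/-- An isotropic difference gives a commuting lift. -/
theorem exists_commute {x y : G} (hx : x ∈ nc D a) (hy : y ∈ nc D a) {p : ↥(line D a c)} {t : F}
    (ht : t ≠ 0) (h : vA D a c l y = vA D a c l x + t • ev D a c l p) :
    Commute x y ∨ Commute x (a * y * a) := by
  obtain ⟨g, hg, rfl⟩ := C.exists_shift_to hx
  obtain ⟨hq, hl⟩ := C.base.pt_spec C.lab p.2 t
  have hqp : pt D a l p t ≠ p := fun e => ht (by rw [← hl, e, C.lab.zero p p.2])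
  obtain ⟨h1, h2, h3⟩ := C.g_fib hq hqp
  set z := a * c * a * pt D a l p t * (a * c * a)
  rw [hl] at h3
  obtain ⟨m1, m2⟩ := C.shift_vA hg h1
  rw [h3, add_comm, ← h] at m2
  have hzc := cmap g h2
  rcases C.vA_inj m1 hy m2 with e | e
  · exact Or.inl (e ▸ hzc.symm)
  · refine Or.inr ?_
    rw [e, show a * (a * (g * z * g⁻¹) * a) * a = g * z * g⁻¹ by
      simp only [mul_assoc, mul_self C.base.pre.set C.base.ha, mul_one,
        mul_self_cancel C.base.pre.set C.base.ha]]
    exact hzc.symm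

/-! ### form rules on functions -/

theorem hm_add_left {x y z : ↥(line D a c) → F} (hx : x ∈ span D a c l) (hy : y ∈ span D a c l)
    (hz : z ∈ span D a c l) : hm D a c l (x + y) z = hm D a c l x z + hm D a c l y z :=
  C.isHerm.add_left ⟨x, hx⟩ ⟨y, hy⟩ ⟨z, hz⟩

theorem hm_add_right {x y z : ↥(line D a c) → F} (hx : x ∈ span D a c l) (hy : y ∈ span D a c l)
    (hz : z ∈ span D a c l) : hm D a c l x (y + z) = hm D a c l x y + hm D a c l x z :=
  C.isHerm.add_right (Cfsg.Agent.U62Cover.card_sq C.card4) ⟨x, hx⟩ ⟨y, hy⟩ ⟨z, hz⟩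

theorem hm_smul_left {x z : ↥(line D a c) → F} (t : F) (hx : x ∈ span D a c l)
    (hz : z ∈ span D a c l) : hm D a c l (t • x) z = t * hm D a c l x z :=
  C.isHerm.smul_left t ⟨x, hx⟩ ⟨z, hz⟩

theorem hm_smul_right {x z : ↥(line D a c) → F} (t : F) (hx : x ∈ span D a c l)
    (hz : z ∈ span D a c l) : hm D a c l x (t • z) = t ^ 2 * hm D a c l x z :=
  C.isHerm.smul_right t ⟨x, hx⟩ ⟨z, hz⟩

theorem hm_symm {x z : ↥(line D a c) → F} (hx : x ∈ span D a c l) (hz : z ∈ span D a c l) :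
    hm D a c l z x = (hm D a c l x z) ^ 2 :=
  C.isHerm.conj_symm ⟨x, hx⟩ ⟨z, hz⟩

theorem hm_self {x : ↥(line D a c) → F} (hx : x ∈ span D a c l) :
    hm D a c l x x = 0 ∨ hm D a c l x x = 1 := by
  by_cases h0 : hm D a c l x x = 0
  · exact Or.inl h0
  · exact Or.inr (Cfsg.Agent.U62Cover.fixed_eq_one C.card4 (C.hm_symm hx hx).symm h0)

/-- The normalised vector of a point. -/
theorem unit_vec {v : ↥(line D a c) → F} (hv : v ∈ span D a c l) (p : ↥(line D a c)) (hp : v p ≠ 0) :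
    v p • ev D a c l p ∈ span D a c l ∧ hm D a c l v (v p • ev D a c l p) = 1 ∧
      hm D a c l (v p • ev D a c l p) v = 1 ∧
      hm D a c l (v p • ev D a c l p) (v p • ev D a c l p) = 0 ∧ (v p • ev D a c l p) p = 0 := by
  have hu := Submodule.smul_mem (span D a c l) (v p) (ev_mem p)
  have h1 : hm D a c l v (v p • ev D a c l p) = 1 := by
    rw [C.hm_smul_ev hv, mul_comm, GF4.mul_sq_self C.card4 hp]
  refine ⟨hu, h1, by rw [C.hm_symm hv hu, h1, one_pow], ?_, by simp [C.ev_self]⟩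
  rw [C.hm_smul_ev hu]
  simp [C.ev_self]

/-- The line of `x` towards `c`. -/
theorem line_calc {x : G} (hx : x ∈ nc D a) (hxc : ¬ Commute x c) (p : ↥(line D a c))
    (hp : vA D a c l x p ≠ 0) :
    ∃ κ μ : F, ∃ z : G, z ∈ pts D x (pt D a l p (vA D a c l x p)) ∧ Commute z c ∧
      vA D a c l z = vA D a c l x + κ • (vA D a c l x p • ev D a c l p) ∧
      hm D a c l (vA D a c l x + κ • (vA D a c l x p • ev D a c l p))
        (vA D a c l x + κ • (vA D a c l x p • ev D a c l p)) = 0 ∧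
      vA D a c l (a * c * a * x * (a * c * a)) = vA D a c l x p • ev D a c l p +
        μ • (vA D a c l x + κ • (vA D a c l x p • ev D a c l p)) := by
  have h := C.base.pre
  set t := vA D a c l x p with ht
  obtain ⟨hq, hl⟩ := C.base.pt_spec C.lab p.2 t
  set q := pt D a l p t with hqdef
  obtain ⟨hqD, -, hqa⟩ := C.base.fib_mem p.2 hq
  have hxq : Commute x q := (C.vA_iff hx p hq).2 hl.symm
  have hne : x ≠ q := fun e => hx.2 (e.symm ▸ hqa)
  have hqp : q ≠ p := fun e => hp (by rw [← hl, e, C.lab.zero p p.2])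
  obtain ⟨z, hz, hcz⟩ := h.hit hx.1 hqD hne hxq C.base.hc
  have hzq : z ≠ q := fun e => hqp (C.base.eq_of_commute p.2 hq (e ▸ hcz))
  have hzx : z ≠ x := fun e => hxc (e ▸ hcz).symm
  have only : ∀ y ∈ pts D x q, Commute y a → y = q := fun y hy hya =>
    h.hit_unique hx.1 hqD hne hxq C.base.ha hy (right_mem_pts hqD hxq) hya.symm hqa.symm
      ⟨x, left_mem_pts hx.1 hxq, fun e => hx.2 e.symm⟩
  have hzm : z ∈ nc D a := ⟨hz.1.1, fun e => hzq (only z hz e)⟩
  have hxz : Commute x z := pts_commute (left_mem_pts hx.1 hxq) hz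
  obtain ⟨p', τ, -, hvz, q', hq', hq'm, -⟩ := C.commute_nc hx hzm hxz hzx.symm
  rw [h.pts_eq hx.1 hqD hne hxq (left_mem_pts hx.1 hxq) hz hzx.symm] at hq'm
  have hq'q : q' = q := only q' hq'm (C.base.fib_mem p'.2 hq').2.2
  obtain rfl : p' = p := Subtype.ext (C.base.fib_eq p'.2 p.2 (hq'q ▸ hq') hq)
  have hvz' : vA D a c l z = vA D a c l x + (τ * t⁻¹) • (t • ev D a c l p') := by
    rw [hvz, smul_smul, inv_mul_cancel_right₀ hp]
  -- the point of `a^⊥` on the conjugate line
  have hzc : z ≠ c := fun e => hxc (e ▸ hxz)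
  obtain ⟨r, q'', hq'', hr0, hzeq, hvz2, -⟩ := C.commute_c hzm hcz.symm hzc
  have h0 : hm D a c l (vA D a c l z) (vA D a c l z) = 0 := by
    rw [hvz2, C.hm_smul_ev (Submodule.smul_mem _ _ (ev_mem r))]
    simp [C.ev_self]
  have hgx := C.g_pres hx hxc
  obtain ⟨hgq, -, hvgq⟩ := C.g_fib hq hqp
  have hcomm : Commute (a * c * a * x * (a * c * a)) (a * c * a * q * (a * c * a)) := by
    rw [← C.g_conj, ← C.g_conj]; exact cmap _ hxq
  have hgne : a * c * a * x * (a * c * a) ≠ a * c * a * q * (a * c * a) :=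
    fun e => hne (mul_left_cancel (mul_right_cancel e))
  obtain ⟨r', τ', -, hv', q₃, hq₃, hq₃m, -⟩ := C.commute_nc hgx hgq hcomm hgne
  have hgz : q'' ∈ pts D (a * c * a * x * (a * c * a)) (a * c * a * q * (a * c * a)) := by
    rw [← C.g_conj, ← C.g_conj, pts_conj h.conj]
    exact ⟨z, hz, by show (a * c * a) * z * (a * c * a)⁻¹ = q''; rw [C.g_conj, hzeq, C.g_invol]⟩
  have hq₃q : q₃ = q'' := h.hit_unique hgx.1 hgq.1 hgne hcomm C.base.ha hq₃m hgz
    (C.base.fib_mem r'.2 hq₃).2.2.symm (C.base.fib_mem r.2 hq'').2.2.symm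
    ⟨_, left_mem_pts hgx.1 hcomm, fun e => hgx.2 e.symm⟩
  obtain rfl : r' = r := Subtype.ext (C.base.fib_eq r'.2 r.2 hq₃ (hq₃q ▸ hq''))
  rw [hvgq, hl] at hv'
  refine ⟨τ * t⁻¹, τ' * (l r' q'')⁻¹, z, hz, hcz.symm, hvz', hvz' ▸ h0, ?_⟩
  rw [← hvz', hvz2, smul_smul, inv_mul_cancel_right₀ hr0, hv', add_assoc, ← add_smul,
    Cfsg.Agent.U62Cover.add_self C.card4, zero_smul, add_zero]

/-- Exchanging `a` and `c` multiplies the vector by a scalar. -/
theorem proportional {x : G} (hx : x ∈ nc D a) (hxc : ¬ Commute x c)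
    (hq : hm D a c l (vA D a c l x) (vA D a c l x) = 1) :
    ∃ s : F, s ≠ 0 ∧ vA D a c l (a * c * a * x * (a * c * a)) = s⁻¹ • vA D a c l x := by
  have hgx := C.g_pres hx hxc
  set v := vA D a c l x with hvdef
  set v' := vA D a c l (a * c * a * x * (a * c * a)) with hv'def
  have hv := C.vA_mem hx
  rw [← hvdef] at hv
  have hzero : ∀ r : ↥(line D a c), v' r = 0 ↔ v r = 0 := fun r => by
    rw [C.vA_base hgx, C.vA_base hx, C.g_commute hx.1]
  by_contra hcon
  push Not at hcon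
  have step : ∀ p : ↥(line D a c), v p ≠ 0 → ∃ κ : F, κ ≠ 0 ∧ κ ≠ 1 ∧
      v' = κ • (v + v p • ev D a c l p) := by
    intro p hp
    obtain ⟨κ, μ, z, -, -, -, hiso, heq⟩ := C.line_calc hx hxc p hp
    rw [← hvdef, ← hv'def] at heq
    rw [← hvdef] at hiso
    obtain ⟨hu, u1, u2, u3, u4⟩ := C.unit_vec hv p hp
    set u := v p • ev D a c l p with hudef
    have hκu := Submodule.smul_mem (span D a c l) κ hu
    have hκ : κ ^ 2 = κ + 1 := by
      rw [C.hm_add_left hv hκu (add_mem hv hκu), C.hm_add_right hv hv hκu,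
        C.hm_add_right hκu hv hκu, C.hm_smul_right κ hv hu, C.hm_smul_left κ hu hv,
        C.hm_smul_left κ hu hκu, C.hm_smul_right κ hu hu, hq, u1, u2, u3] at hiso
      linear_combination hiso - (1 + κ) * Cfsg.Agent.U62Cover.two_eq_zero C.card4
    have hκ0 : κ ≠ 0 := fun e => by rw [e] at hκ; norm_num at hκ
    have hκ1 : κ ≠ 1 := fun e => by
      rw [e, one_pow] at hκ; exact one_ne_zero (by linear_combination -hκ)
    have hval : v' p = μ * v p := by
      rw [heq]; simp [u4]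
    have hμ : μ ≠ 0 := fun e => hp ((hzero p).1 (by rw [hval, e, zero_mul]))
    have hv'eq : v' = μ • v + (1 + μ * κ) • u := by
      rw [heq, smul_add, smul_smul, add_smul, one_smul]; abel
    have hμ1 : μ ≠ 1 := by
      rintro rfl
      rw [one_mul, one_smul, show (1 : F) + κ = κ ^ 2 by rw [hκ, add_comm]] at hv'eq
      have hm' : v + κ ^ 2 • u ∈ span D a c l := add_mem hv (Submodule.smul_mem _ _ hu)
      have hku := Submodule.smul_mem (span D a c l) (κ ^ 2) hu
      have hne : v + κ ^ 2 • u ≠ 0 := fun e => hp (by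
        have := congrFun e p; simpa [u4] using this)
      have hi : hm D a c l (v + κ ^ 2 • u) (v + κ ^ 2 • u) = 0 := by
        rw [C.hm_add_left hv hku hm', C.hm_add_right hv hv hku, C.hm_add_right hku hv hku,
          C.hm_smul_right (κ ^ 2) hv hu, C.hm_smul_left (κ ^ 2) hu hv, C.hm_smul_left (κ ^ 2) hu hku,
          C.hm_smul_right (κ ^ 2) hu hu, hq, u1, u2, u3, GF4.sq_sq C.card4]
        linear_combination hκ + (1 + κ) * Cfsg.Agent.U62Cover.two_eq_zero C.card4
      obtain ⟨r, t, ht, hr⟩ := C.exists_iso_point hm' hne hi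
      have hr0 : v' r = 0 := by rw [hv'eq, hr]; simp [C.ev_self]
      have h1 : hm D a c l v (v + κ ^ 2 • u) = 0 := by
        rw [hr, C.hm_smul_ev hv, (hzero r).1 hr0, mul_zero]
      rw [C.hm_add_right hv hv hku, C.hm_smul_right (κ ^ 2) hv hu, hq, u1, GF4.sq_sq C.card4] at h1
      exact hκ1 (GF4.eq_of_add_zero C.card4 (by linear_combination h1))
    refine ⟨κ, hκ0, hκ1, ?_⟩
    have hμκ : μ * κ ≠ 1 := fun e => by
      refine hcon μ⁻¹ (inv_ne_zero hμ) ?_
      rw [inv_inv, hv'eq, e, Cfsg.Agent.U62Cover.add_self C.card4, zero_smul, add_zero]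
    have hμκ' : μ = κ := by
      rcases GF4.cases C.card4 one_ne_zero hκ0 hκ1 μ with e | e | e | e
      · exact absurd e hμ
      · exact absurd e hμ1
      · exact e
      · exfalso; apply hμκ; rw [e]
        linear_combination hκ + κ * Cfsg.Agent.U62Cover.two_eq_zero C.card4
    rw [hv'eq, hμκ', show (1 : F) + κ * κ = κ by
      linear_combination hκ + Cfsg.Agent.U62Cover.two_eq_zero C.card4, smul_add]
  obtain ⟨p, hp⟩ : ∃ p, v p ≠ 0 := by
    by_contra hall
    push Not at hall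
    have hv0 : v = 0 := funext hall
    rw [hv0] at hq
    have h00 : hm D a c l (0 : ↥(line D a c) → F) 0 = 0 := C.isHerm.zero_left (0 : ↥(span D a c l))
    rw [h00] at hq
    exact zero_ne_one hq
  obtain ⟨κ, hκ0, hκ1, heq⟩ := step p hp
  obtain ⟨hu, u1, u2, u3, u4⟩ := C.unit_vec hv p hp
  set u := v p • ev D a c l p with hudef
  have hκ : κ ^ 2 = κ + 1 := GF4.trace_one C.card4 hκ0 hκ1
  -- the isotropic vector `v + v'`
  have e1 : v + v' = κ ^ 2 • v + κ • u := by rw [heq, hκ, add_smul, one_smul, smul_add]; abel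
  have ha' := Submodule.smul_mem (span D a c l) (κ ^ 2) hv
  have hb' := Submodule.smul_mem (span D a c l) κ hu
  have hm' := add_mem ha' hb'
  have hne : κ ^ 2 • v + κ • u ≠ 0 := fun e => by
    have := congrFun e p
    simp [u4, hp, pow_ne_zero 2 hκ0] at this
  have hv1 : hm D a c l v (κ ^ 2 • v + κ • u) = 1 := by
    rw [C.hm_add_right hv ha' hb', C.hm_smul_right _ hv hv, C.hm_smul_right _ hv hu, hq, u1,
      GF4.sq_sq C.card4]
    linear_combination hκ + κ * Cfsg.Agent.U62Cover.two_eq_zero C.card4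
  have hi : hm D a c l (κ ^ 2 • v + κ • u) (κ ^ 2 • v + κ • u) = 0 := by
    rw [C.hm_add_left ha' hb' hm', C.hm_smul_left _ hv hm', C.hm_smul_left _ hu hm', hv1,
      C.hm_add_right hu ha' hb', C.hm_smul_right _ hu hv, C.hm_smul_right _ hu hu, u2, u3,
      GF4.sq_sq C.card4]
    linear_combination κ ^ 2 * Cfsg.Agent.U62Cover.two_eq_zero C.card4
  obtain ⟨r, t, ht, hr⟩ := C.exists_iso_point hm' hne hi
  rw [hr, C.hm_smul_ev hv] at hv1
  have hvr : v r = t := by
    linear_combination t * hv1 - (v r) * GF4.mul_sq_self C.card4 ht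
  obtain ⟨κ', -, hκ'1, heq'⟩ := step r (hvr ▸ ht)
  rw [hvr, ← hr, ← e1] at heq'
  have h2 : v + (v + v') = v' := by
    funext i
    simp only [Pi.add_apply]
    linear_combination v i * Cfsg.Agent.U62Cover.two_eq_zero C.card4
  rw [h2] at heq'
  have hp' : v' p ≠ 0 := fun e => hp ((hzero p).1 e)
  apply hκ'1
  have := congrFun heq' p
  rw [Pi.smul_apply, smul_eq_mul] at this
  exact (mul_eq_right₀ hp').1 this.symm

end Co

end Cfsg.Agent.ThreeTrans.Polar
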