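/-
The last coordinate of a member outside `a^⊥` and the commutation law.

Main results: `sc`, `Co.sc_trace`, `Co.sc_axa`, `Co.law`.
-/
import Cfsg.Agent.Lib.ThreeTrans.Polar.Lifts

set_option autoImplicit false

namespace Cfsg.Agent.ThreeTrans.Polar

open Cfsg Cfsg.Agent.ThreeTransRank Cfsg.Agent.ThreeTrans
open Cfsg.Agent.ThreeTrans.SolvLocal (line cmap of_cmap conj_fix commute_of_fix)

variable {G : Type*} [Group G] {D : Set G} {a c : G} {F : Type*} [Field F] [Fintype F]

/-- The coordinate along `a`. -/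
noncomputable def sc (D : Set G) (a c : G) (l : G → G → F) (x : G) : F := by
  classical
  exact if Commute x c then 0 else if vA D a c l x = 0 then 1 else
    if h : ∃ s : F, vA D a c l (a * c * a * x * (a * c * a)) = s⁻¹ • vA D a c l x then h.choose else 1

namespace Co

variable [Finite G] {l : G → G → F} (C : Co D a c l)
include C

theorem sc_of_commute {x : G} (h : Commute x c) : sc D a c l x = 0 := by rw [sc, if_pos h]

theorem eq_of_smul_inv {v : ↥(line D a c) → F} (hv : v ≠ 0) {s s' : F} (e : s⁻¹ • v = s'⁻¹ • v) :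
    s = s' := by
  obtain ⟨i, hi⟩ := Function.ne_iff.1 hv
  have := congrFun e i
  simp only [Pi.smul_apply, smul_eq_mul] at this
  exact inv_injective (mul_right_cancel₀ hi this)

theorem vA_eq_zero {x : G} (hx : x ∈ nc D a) (h : vA D a c l x = 0) : x = c ∨ x = a * c * a :=
  C.vA_inj C.c_mem hx (C.vA_c.trans h.symm)

/-- An isotropic member not commuting with `c` is fixed by the exchange. -/
theorem g_fix {x : G} (hx : x ∈ nc D a) (hxc : ¬ Commute x c)
    (hq : hm D a c l (vA D a c l x) (vA D a c l x) = 0) :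
    a * c * a * x * (a * c * a) = x := by
  have hD := C.base.pre.set
  by_cases h0 : vA D a c l x = 0
  · rcases C.vA_eq_zero hx h0 with rfl | rfl
    · exact absurd (Commute.refl x) hxc
    · rw [mul_self hD C.g_mem, one_mul]
  obtain ⟨p, t, ht, hv⟩ := C.exists_iso_point (C.vA_mem hx) h0 hq
  obtain ⟨hfq, hl⟩ := C.base.pt_spec C.lab p.2 t
  have hqp : pt D a l p t ≠ p := fun e => ht (by rw [← hl, e, C.lab.zero p p.2])
  obtain ⟨h1, h2, h3⟩ := C.g_fib hfq hqp
  set q := pt D a l p t with hqdef
  obtain ⟨hqD, -, hqa⟩ := C.base.fib_mem p.2 hfq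
  rw [hl, ← hv] at h3
  rcases C.vA_inj h1 hx h3 with e | e
  · exact absurd (e ▸ h2) hxc
  have hcq : ¬ Commute q c := fun e => hqp (C.base.eq_of_commute p.2 hfq e.symm)
  have e1 : x = c * q * c := by
    rw [e]
    calc a * (a * c * a * q * (a * c * a)) * a = (a * a) * c * (a * q * a) * c * (a * a) := by
          simp only [mul_assoc]
      _ = c * q * c := by
          rw [mul_self hD C.base.ha, one_mul, mul_one, conj_conj_of_commute hD C.base.ha hqa.symm]
  have hg : a * c * a = c * a * c := braid hD C.base.ha C.base.hc C.base.nac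
  rw [hg, e1]
  calc c * a * c * (c * q * c) * (c * a * c) = c * a * (c * c) * q * (c * c) * a * c := by
        simp only [mul_assoc]
    _ = c * (a * q * a) * c := by rw [mul_self hD C.base.hc]; simp only [mul_assoc, one_mul]
    _ = c * q * c := by rw [conj_conj_of_commute hD C.base.ha hqa.symm]

theorem sc_ne_zero {x : G} (hx : x ∈ nc D a) (hxc : ¬ Commute x c) :
    sc D a c l x ≠ 0 ∧
      vA D a c l (a * c * a * x * (a * c * a)) = (sc D a c l x)⁻¹ • vA D a c l x := by
  have hgx := C.g_pres hx hxc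
  by_cases h0 : vA D a c l x = 0
  · rw [sc, if_neg hxc, if_pos h0]
    refine ⟨one_ne_zero, ?_⟩
    rw [inv_one, one_smul]
    rcases C.vA_eq_zero hx h0 with rfl | rfl
    · exact absurd (Commute.refl x) hxc
    · rw [mul_self C.base.pre.set C.g_mem, one_mul]
  have hex : ∃ s : F, s ≠ 0 ∧
      vA D a c l (a * c * a * x * (a * c * a)) = s⁻¹ • vA D a c l x := by
    rcases C.hm_self (C.vA_mem hx) with hq | hq
    · exact ⟨1, one_ne_zero, by rw [C.g_fix hx hxc hq, inv_one, one_smul]⟩
    · exact C.proportional hx hxc hq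
  obtain ⟨s, hs0, hs⟩ := hex
  have h : ∃ s : F, vA D a c l (a * c * a * x * (a * c * a)) = s⁻¹ • vA D a c l x := ⟨s, hs⟩
  rw [sc, if_neg hxc, if_neg h0, dif_pos h]
  refine ⟨?_, h.choose_spec⟩
  rw [C.eq_of_smul_inv h0 (h.choose_spec.symm.trans hs)]
  exact hs0

theorem sc_eq_zero {x : G} (hx : x ∈ nc D a) : sc D a c l x = 0 ↔ Commute x c :=
  ⟨fun h => by_contra fun hn => (C.sc_ne_zero hx hn).1 h, C.sc_of_commute⟩

theorem hm_of_commute_c {x : G} (hx : x ∈ nc D a) (hxc : Commute x c) :
    hm D a c l (vA D a c l x) (vA D a c l x) = 0 := by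
  by_cases hne : x = c
  · rw [hne, C.vA_c]
    exact C.isHerm.zero_left (0 : ↥(span D a c l))
  obtain ⟨p, q, -, -, -, hv, -⟩ := C.commute_c hx hxc hne
  rw [hv, C.hm_smul_ev (Submodule.smul_mem _ _ (ev_mem p))]
  simp [C.ev_self]

theorem sc_iso {x : G} (hx : x ∈ nc D a) (hxc : ¬ Commute x c)
    (hq : hm D a c l (vA D a c l x) (vA D a c l x) = 0) : sc D a c l x = 1 := by
  by_cases h0 : vA D a c l x = 0
  · rw [sc, if_neg hxc, if_pos h0]
  obtain ⟨-, h2⟩ := C.sc_ne_zero hx hxc
  rw [C.g_fix hx hxc hq] at h2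
  exact C.eq_of_smul_inv h0 (h2.symm.trans (by rw [inv_one, one_smul]))

theorem sc_trace {x : G} (hx : x ∈ nc D a) :
    sc D a c l x + (sc D a c l x) ^ 2 = hm D a c l (vA D a c l x) (vA D a c l x) := by
  have hD := C.base.pre.set
  by_cases hxc : Commute x c
  · rw [C.sc_of_commute hxc, C.hm_of_commute_c hx hxc]; ring
  rcases C.hm_self (C.vA_mem hx) with hq | hq
  · rw [C.sc_iso hx hxc hq, hq]
    linear_combination Cfsg.Agent.U62Cover.two_eq_zero C.card4
  obtain ⟨hs0, hs⟩ := C.sc_ne_zero hx hxc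
  have hs1 : sc D a c l x ≠ 1 := by
    intro e
    rw [e, inv_one, one_smul] at hs
    rcases C.vA_inj hx (C.g_pres hx hxc) hs.symm with e' | e'
    · have hxg : Commute x (a * c * a) := (commute_of_conj_eq hD C.g_mem e').symm
      have hgm := C.axa_mem C.c_mem
      rcases eq_or_ne x (a * c * a) with rfl | hne
      · rw [C.vA_axa C.c_mem, C.vA_c] at hq
        exact zero_ne_one ((C.isHerm.zero_left (0 : ↥(span D a c l))).symm.trans hq)
      obtain ⟨p, t, -, hv, -⟩ := C.commute_nc hgm hx hxg.symm hne.symm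
      rw [C.vA_axa C.c_mem, C.vA_c, zero_add] at hv
      rw [hv, C.hm_smul_ev (Submodule.smul_mem _ _ (ev_mem p))] at hq
      simp [C.ev_self] at hq
    · have e3 : a * x * a = c * x * c := by
        calc a * x * a = c * (c * (a * x * a) * c) * c := by
              simp only [mul_assoc, mul_self hD C.base.hc, mul_one, mul_self_cancel hD C.base.hc]
          _ = c * (a * (a * c * a * x * (a * c * a)) * a) * c := by
              simp only [mul_assoc, mul_self hD C.base.ha, mul_one, mul_self_cancel hD C.base.ha]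
          _ = c * (a * (a * x * a) * a) * c := by rw [e']
          _ = c * x * c := by
              simp only [mul_assoc, mul_self hD C.base.ha, mul_one, mul_self_cancel hD C.base.ha]
      rw [braid hD C.base.ha hx.1 (fun h => hx.2 h.symm), braid hD C.base.hc hx.1 fun h => hxc h.symm]
        at e3
      exact C.base.nac ((mul_left_cancel (mul_right_cancel e3)) ▸ Commute.refl a)
  rw [hq, GF4.trace_one C.card4 hs0 hs1]
  linear_combination sc D a c l x * Cfsg.Agent.U62Cover.two_eq_zero C.card4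

theorem sc_axa {x : G} (hx : x ∈ nc D a) : sc D a c l (a * x * a) = sc D a c l x + 1 := by
  have hD := C.base.pre.set
  have hy := C.axa_mem hx
  have h1 := C.sc_trace hx
  have h2 := C.sc_trace hy
  rw [C.vA_axa hx] at h2
  set s := sc D a c l x with hs
  set s' := sc D a c l (a * x * a) with hs'
  have hne : s' ≠ s := by
    intro e
    by_cases hxc : Commute x c
    · have h0 : s' = 0 := by rw [e, hs, C.sc_of_commute hxc]
      exact C.not_commute_axa C.c_mem hx hxc.symm ((C.sc_eq_zero hy).1 h0).symm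
    have hyc : ¬ Commute (a * x * a) c := fun h' => hxc ((C.sc_eq_zero hx).1 (by
      rw [← hs, ← e, hs', C.sc_of_commute h']))
    obtain ⟨-, g1⟩ := C.sc_ne_zero hx hxc
    obtain ⟨-, g2⟩ := C.sc_ne_zero hy hyc
    rw [C.vA_axa hx, ← hs', e, hs, ← g1] at g2
    rcases C.vA_inj (C.g_pres hx hxc) (C.g_pres hy hyc) g2.symm with e' | e'
    · exact C.axa_ne hx (mul_left_cancel (mul_right_cancel e'))
    · have e3 : a * x * a = c * x * c := by
        calc a * x * a = a * c * a * (a * c * a * (a * x * a) * (a * c * a)) * (a * c * a) :=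
              (C.g_invol _).symm
          _ = a * c * a * (a * (a * c * a * x * (a * c * a)) * a) * (a * c * a) := by rw [e']
          _ = (a * c * a * a * (a * c * a)) * x * (a * c * a * a * (a * c * a)) := by
              simp only [mul_assoc]
          _ = c * x * c := by rw [C.g_a]
      rw [braid hD C.base.ha hx.1 (fun h => hx.2 h.symm), braid hD C.base.hc hx.1 fun h => hxc h.symm]
        at e3
      exact C.base.nac ((mul_left_cancel (mul_right_cancel e3)) ▸ Commute.refl a)
  have hF := C.card4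
  have key : (s' - s) * (s' + s + 1) = 0 := by
    linear_combination h2 - h1
  rcases mul_eq_zero.1 key with e | e
  · exact absurd (sub_eq_zero.1 e) hne
  · linear_combination e - (s + 1) * Cfsg.Agent.U62Cover.two_eq_zero hF

/-- The commutation law. -/
theorem law {x y : G} (hx : x ∈ nc D a) (hy : y ∈ nc D a) (hxy : Commute x y) :
    sc D a c l y = sc D a c l x + hm D a c l (vA D a c l y + vA D a c l x) (vA D a c l x) := by
  have h := C.base.pre
  have hF := C.card4
  have hvx := C.vA_mem hx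
  rcases eq_or_ne x y with rfl | hne
  · rw [C.hm_add_left hvx hvx hvx, Cfsg.Agent.U62Cover.add_self hF, add_zero]
  obtain ⟨p, τ₀, hτ0, hvy, q, hq, hqm, hlq⟩ := C.commute_nc hx hy hxy hne
  have hu : vA D a c l y + vA D a c l x = τ₀ • ev D a c l p := by
    funext i
    rw [hvy]; simp only [Pi.add_apply]
    linear_combination vA D a c l x i * Cfsg.Agent.U62Cover.two_eq_zero hF
  rw [hu, C.hm_smul_left _ (ev_mem p) hvx, C.hm_symm hvx (ev_mem p), C.hm_ev hvx]
  obtain ⟨hqD, -, hqa⟩ := C.base.fib_mem p.2 hq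
  have mx := left_mem_pts (D := D) hx.1 hxy
  have my := right_mem_pts (D := D) hy.1 hxy
  have hxq := pts_commute mx hqm
  have hxq' : x ≠ q := fun e => hx.2 (e.symm ▸ hqa)
  have hyq' : y ≠ q := fun e => hy.2 (e.symm ▸ hqa)
  by_cases hvp : vA D a c l x p = 0
  · rw [hvp]; simp only [zero_pow, ne_eq, OfNat.ofNat_ne_zero, not_false_eq_true, mul_zero, add_zero]
    obtain rfl : q = p := C.lab.inj p p.2 hq (C.base.self_mem p.2)
      (by rw [hlq, hvp, C.lab.zero p p.2])
    have hcp : Commute c p := p.2.2.2.symm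
    by_cases hxc : Commute x c
    · rw [C.sc_of_commute hxc, C.sc_of_commute
        (h.commute_all hx.1 hy.1 hne hxy C.base.hc mx hqm hxq' hxc.symm hcp my).symm]
    by_cases hyc : Commute y c
    · exact absurd (h.commute_all hx.1 hy.1 hne hxy C.base.hc my hqm hyq' hyc.symm hcp mx).symm hxc
    obtain ⟨hsx, gx⟩ := C.sc_ne_zero hx hxc
    obtain ⟨hsy, gy⟩ := C.sc_ne_zero hy hyc
    have mgx := C.g_pres hx hxc
    have mgy := C.g_pres hy hyc
    have hcomm : Commute (a * c * a * x * (a * c * a)) (a * c * a * y * (a * c * a)) := by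
      rw [← C.g_conj, ← C.g_conj]; exact cmap _ hxy
    have hgne : a * c * a * x * (a * c * a) ≠ a * c * a * y * (a * c * a) :=
      fun e => hne (mul_left_cancel (mul_right_cancel e))
    obtain ⟨p', t', -, hv', q', hq', hq'm, -⟩ := C.commute_nc mgx mgy hcomm hgne
    have hpm : (p : G) ∈ pts D (a * c * a * x * (a * c * a)) (a * c * a * y * (a * c * a)) := by
      rw [← C.g_conj, ← C.g_conj, pts_conj h.conj]
      exact ⟨p, hqm, by show (a * c * a) * (p : G) * (a * c * a)⁻¹ = p; rw [C.g_conj, C.g_line p]⟩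
    have hqq : q' = p := h.hit_unique mgx.1 mgy.1 hgne hcomm C.base.ha hq'm hpm
      (C.base.fib_mem p'.2 hq').2.2.symm p.2.2.1.symm
      ⟨_, left_mem_pts mgx.1 hcomm, fun e => mgx.2 e.symm⟩
    obtain rfl : p' = p := Subtype.ext
      (C.base.fib_eq p'.2 p.2 (hqq ▸ hq') (C.base.self_mem p.2))
    rw [gx, gy, hvy] at hv'
    by_contra hss
    have hδ : (sc D a c l y)⁻¹ + (sc D a c l x)⁻¹ ≠ 0 := fun e =>
      hss (inv_injective (GF4.eq_of_add_zero hF e))
    set δ := (sc D a c l y)⁻¹ + (sc D a c l x)⁻¹ with hδdef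
    have hv : vA D a c l x = (δ⁻¹ * (t' + (sc D a c l y)⁻¹ * τ₀)) • ev D a c l p' := by
      funext i
      have := congrFun hv' i
      simp only [Pi.add_apply, Pi.smul_apply, smul_eq_mul] at this ⊢
      have h9 : δ * vA D a c l x i = (t' + (sc D a c l y)⁻¹ * τ₀) * ev D a c l p' i := by
        rw [hδdef]
        linear_combination this + ((sc D a c l x)⁻¹ * vA D a c l x i -
          (sc D a c l y)⁻¹ * τ₀ * ev D a c l p' i) * Cfsg.Agent.U62Cover.two_eq_zero hF
      rw [mul_assoc, ← h9, inv_mul_cancel_left₀ hδ]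
    have qx : hm D a c l (vA D a c l x) (vA D a c l x) = 0 := by
      rw [hv, C.hm_smul_ev (Submodule.smul_mem _ _ (ev_mem p'))]; simp [C.ev_self]
    have qy : hm D a c l (vA D a c l y) (vA D a c l y) = 0 := by
      rw [hvy, hv, ← add_smul, C.hm_smul_ev (Submodule.smul_mem _ _ (ev_mem p'))]; simp [C.ev_self]
    exact hss (by rw [C.sc_iso hy hyc qy, C.sc_iso hx hxc qx])
  -- `c` meets the line in a member outside `a^⊥`
  set t := vA D a c l x p with ht
  have hqp : q ≠ p := fun e => hvp (by rw [← hlq, e, C.lab.zero p p.2])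
  have hcq : ¬ Commute c q := fun e => hqp (C.base.eq_of_commute p.2 hq e)
  have hqpt : pt D a l p t = q := by rw [← hlq, C.base.pt_eq C.lab p.2 hq]
  have hptseq : pts D x q = pts D x y := h.pts_eq hx.1 hy.1 hne hxy mx hqm hxq'
  have hyp : vA D a c l y p = t := by rw [hvy]; simp [C.ev_self, ← ht]
  have hyqeq : pts D y q = pts D x y := h.pts_eq hx.1 hy.1 hne hxy my hqm hyq'
  have huniq : ∀ z ∈ pts D x y, ∀ z' ∈ pts D x y, Commute z c → Commute z' c → z = z' :=
    fun z hz z' hz' e e' => h.hit_unique hx.1 hy.1 hne hxy C.base.hc hz hz' e.symm e'.symm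
      ⟨q, hqm, hcq⟩
  -- the line from any point on it
  have calc' : ∀ {w : G}, w ∈ nc D a → ¬ Commute w c → vA D a c l w p = t → pts D w q = pts D x y →
      ∃ z ∈ pts D x y, Commute z c ∧
        vA D a c l z = vA D a c l w + sc D a c l w • (t • ev D a c l p) := by
    intro w hw hwc hwp hwl
    obtain ⟨κ, μ, z, hz, hzc, hvz, -, heq⟩ := C.line_calc hw hwc p (hwp ▸ hvp)
    rw [hwp, hqpt, hwl] at hz
    refine ⟨z, hz, hzc, ?_⟩
    obtain ⟨hs0, hs⟩ := C.sc_ne_zero hw hwc
    rw [hwp] at hvz heq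
    rw [hs] at heq
    have hμ : (sc D a c l w)⁻¹ = μ := by
      have := congrFun heq p
      simp only [Pi.add_apply, Pi.smul_apply, smul_eq_mul, C.ev_self, mul_zero, zero_add, add_zero,
        hwp] at this
      exact mul_right_cancel₀ hvp this
    have hκ : sc D a c l w = κ := by
      obtain ⟨i, hi⟩ := C.exists_noncomm p
      have hei : ev D a c l p i ≠ 0 := fun e => hi (C.ev_eq_zero.1 e).symm
      have := congrFun heq i
      simp only [Pi.add_apply, Pi.smul_apply, smul_eq_mul, ← hμ] at this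
      have h9 : (t * ev D a c l p i) * (1 + (sc D a c l w)⁻¹ * κ) = 0 := by linear_combination -this
      have h10 := GF4.eq_of_add_zero hF ((mul_eq_zero.1 h9).resolve_left (mul_ne_zero hvp hei))
      calc sc D a c l w = sc D a c l w * ((sc D a c l w)⁻¹ * κ) := by rw [← h10, mul_one]
        _ = κ := mul_inv_cancel_left₀ hs0 κ
    rw [hvz, hκ]
  obtain ⟨i, hi⟩ := C.exists_noncomm p
  have hei : t * ev D a c l p i ≠ 0 := mul_ne_zero hvp fun e => hi (C.ev_eq_zero.1 e).symm
  have hlam : ∀ i, vA D a c l y i = vA D a c l x i + (τ₀ * t⁻¹) * (t * ev D a c l p i) := by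
    intro i; rw [hvy]; simp only [Pi.add_apply, Pi.smul_apply, smul_eq_mul]; field_simp
  suffices sc D a c l y = sc D a c l x + τ₀ * t⁻¹ by rw [this, GF4.inv_eq_sq hF hvp]
  by_cases hxc : Commute x c
  · by_cases hyc : Commute y c
    · exact absurd (huniq x mx y my hxc hyc) hne
    obtain ⟨z, hz, hzc, hvz⟩ := calc' hy hyc hyp hyqeq
    obtain rfl := huniq z hz x mx hzc hxc
    have := congrFun hvz i
    simp only [Pi.add_apply, Pi.smul_apply, smul_eq_mul] at this
    rw [hlam] at this
    rw [C.sc_of_commute hxc, zero_add]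
    refine GF4.eq_of_add_zero hF ((mul_eq_zero.1 ?_).resolve_left hei)
    linear_combination -this
  obtain ⟨z, hz, hzc, hvz⟩ := calc' hx hxc rfl hptseq
  have hvzi := congrFun hvz i
  simp only [Pi.add_apply, Pi.smul_apply, smul_eq_mul] at hvzi
  by_cases hyc : Commute y c
  · obtain rfl := huniq z hz y my hzc hyc
    rw [hlam] at hvzi
    rw [C.sc_of_commute hyc]
    have : sc D a c l x = τ₀ * t⁻¹ :=
      mul_right_cancel₀ hei (by linear_combination -hvzi)
    rw [this, Cfsg.Agent.U62Cover.add_self hF]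
  obtain ⟨z', hz', hzc', hvz'⟩ := calc' hy hyc hyp hyqeq
  obtain rfl := huniq z' hz' z hz hzc' hzc
  have := congrFun hvz' i
  simp only [Pi.add_apply, Pi.smul_apply, smul_eq_mul] at this
  rw [hlam, hvzi] at this
  refine mul_right_cancel₀ hei ?_
  linear_combination -this + (τ₀ * t⁻¹) * (t * ev D a c l p i) *
    (-Cfsg.Agent.U62Cover.two_eq_zero hF)

end Co

end Cfsg.Agent.ThreeTrans.Polar
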