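/-
A class with commutation given by a hermitian space over the field with four elements: the group is
the projective special unitary group.

Main result: `Pre.equiv_psu`.
-/
import Cfsg.Agent.Lib.ThreeTrans.Polar.Five
import Cfsg.Agent.Lib.ThreeTrans.Polar.GF4
import Cfsg.Agent.Lib.ThreeTransSU.Class

set_option autoImplicit false

namespace Cfsg.Agent.ThreeTrans.Polar

open Cfsg Cfsg.Agent.ThreeTransRank Cfsg.Agent.ThreeTrans
open Cfsg.Agent.ThreeTrans.SolvLocal (line cmap of_cmap conj_fix commute_of_fix)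
open Cfsg.Agent.ThreeTransSU (Iso act hf)
open Cfsg.Agent.U62Cover (tv)

variable {G : Type*} [Group G] {D : Set G}

section Std

variable {F : Type*} [Field F] [Fintype F] {n : ℕ}

/-- Two vectors with a non-zero product span the double perpendicular of their isotropic perpendicular. -/
theorem mem_plane (hF : Fintype.card F = 4) (hn : 4 ≤ n) {x y w : Fin n → F} (hx : hf x x = 0)
    (hy : hf y y = 0) (hxy : hf x y ≠ 0)
    (hw : ∀ z, Iso z → hf z x = 0 → hf z y = 0 → hf z w = 0) :
    ∃ α β : F, w = α • x + β • y := by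
  obtain ⟨ω, hω0, hω⟩ := Cfsg.Agent.U62Cover.exists_omega hF
  have h2 := Cfsg.Agent.U62Cover.two_eq_zero hF
  have hyx : hf y x ≠ 0 := fun e => hxy ((ThreeTransSU.hf_eq_zero_symm hF).1 e)
  -- anything isotropic is orthogonal to `w`, also the zero vector
  have hw' : ∀ z, hf z z = 0 → hf z x = 0 → hf z y = 0 → hf z w = 0 := by
    intro z h1 h3 h4
    by_cases hz : z = 0
    · rw [hz, ThreeTransSU.hf_zero_left hF]
    · exact hw z ⟨hz, h1⟩ h3 h4
  -- two orthogonal anisotropic vectors
  have pair : ∀ z u, hf z z = 1 → hf u u = 1 → hf u z = 0 → hf z x = 0 → hf z y = 0 → hf u x = 0 →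
      hf u y = 0 → hf z w = 0 := by
    intro z u hz hu huz z1 z2 u1 u2
    have hzu : hf z u = 0 := (ThreeTransSU.hf_eq_zero_symm hF).1 huz
    have e : ∀ k : F, k * k ^ 2 = 1 → hf z w + k * hf u w = 0 := by
      intro k hk
      have := hw' (z + k • u) ?_ ?_ ?_
      · rwa [ThreeTransSU.hf_add_left hF, ThreeTransSU.hf_smul_left hF] at this
      · rw [ThreeTransSU.hf_add_left hF, ThreeTransSU.hf_add_right hF, ThreeTransSU.hf_add_right hF,
          ThreeTransSU.hf_smul_left hF, ThreeTransSU.hf_smul_right hF, ThreeTransSU.hf_smul_left hF,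
          ThreeTransSU.hf_smul_right hF, hz, hu, huz, hzu]
        linear_combination hk + h2
      · rw [ThreeTransSU.hf_add_left hF, ThreeTransSU.hf_smul_left hF, z1, u1, mul_zero, add_zero]
      · rw [ThreeTransSU.hf_add_left hF, ThreeTransSU.hf_smul_left hF, z2, u2, mul_zero, add_zero]
    have e1 := e 1 (by ring)
    have e2 := e ω (GF4.mul_sq_self hF hω0)
    have hω1 : ω + 1 ≠ 0 := by rw [← hω]; exact pow_ne_zero 2 hω0
    have h3 : (ω + 1) * hf u w = 0 := by linear_combination e2 - e1 + hf u w * h2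
    rw [(mul_eq_zero.1 h3).resolve_left hω1, mul_zero, add_zero] at e1
    exact e1
  have all : ∀ z, hf z x = 0 → hf z y = 0 → hf z w = 0 := by
    intro z z1 z2
    by_cases hz0 : hf z z = 0
    · exact hw' z hz0 z1 z2
    have hz : hf z z = 1 :=
      Cfsg.Agent.U62Cover.fixed_eq_one hF (ThreeTransSU.hf_symm hF z z).symm hz0
    -- a vector orthogonal to `x`, `y`, `z`
    let L : (Fin n → F) →ₗ[F] (Fin 3 → F) :=
      { toFun := fun v => ![hf v x, hf v y, hf v z]
        map_add' := fun v v' => by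
          funext i; fin_cases i <;> simp [ThreeTransSU.hf_add_left hF]
        map_smul' := fun k v => by
          funext i; fin_cases i <;> simp [ThreeTransSU.hf_smul_left hF] }
    obtain ⟨u, hu, hu0⟩ := (Submodule.ne_bot_iff _).1 (LinearMap.ker_ne_bot_of_finrank_lt (f := L)
      (by simp only [Module.finrank_fintype_fun_eq_card, Fintype.card_fin]; omega))
    rw [LinearMap.mem_ker] at hu
    have u1 : hf u x = 0 := congrFun hu 0
    have u2 : hf u y = 0 := congrFun hu 1
    have u3 : hf u z = 0 := congrFun hu 2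
    by_cases huu : hf u u = 0
    swap
    · exact pair z u hz (Cfsg.Agent.U62Cover.fixed_eq_one hF (ThreeTransSU.hf_symm hF u u).symm huu)
        u3 z1 z2 u1 u2
    -- a partner of `u` orthogonal to `x`, `y`, `z`
    obtain ⟨v, hv⟩ := ThreeTransSU.exists_hf_one hF hu0
    set v' := v + (hf v x * (hf y x)⁻¹) • y + (hf v y * (hf x y)⁻¹) • x with hv'
    have hzy : hf y z = 0 := (ThreeTransSU.hf_eq_zero_symm hF).1 z2
    have hzx : hf x z = 0 := (ThreeTransSU.hf_eq_zero_symm hF).1 z1
    have hyu : hf y u = 0 := (ThreeTransSU.hf_eq_zero_symm hF).1 u2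
    have hxu : hf x u = 0 := (ThreeTransSU.hf_eq_zero_symm hF).1 u1
    have hzu : hf z u = 0 := (ThreeTransSU.hf_eq_zero_symm hF).1 u3
    have v1 : hf v' x = 0 := by
      rw [hv']; simp only [ThreeTransSU.hf_add_left hF, ThreeTransSU.hf_smul_left hF, hx, mul_zero,
        add_zero, inv_mul_cancel_right₀ hyx, Cfsg.Agent.U62Cover.add_self hF]
    have v2 : hf v' y = 0 := by
      rw [hv']; simp only [ThreeTransSU.hf_add_left hF, ThreeTransSU.hf_smul_left hF, hy, mul_zero,
        add_zero, inv_mul_cancel_right₀ hxy, Cfsg.Agent.U62Cover.add_self hF]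
    have v3 : hf v' u = 1 := by
      rw [hv']; simp only [ThreeTransSU.hf_add_left hF, ThreeTransSU.hf_smul_left hF, hv, hyu, hxu,
        mul_zero, add_zero]
    set v'' := v' + hf v' z • z with hv''
    have w3 : hf v'' z = 0 := by
      rw [hv'']; simp only [ThreeTransSU.hf_add_left hF, ThreeTransSU.hf_smul_left hF, hz, mul_one,
        Cfsg.Agent.U62Cover.add_self hF]
    have w1 : hf v'' x = 0 := by
      rw [hv'']; simp only [ThreeTransSU.hf_add_left hF, ThreeTransSU.hf_smul_left hF, v1, z1,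
        mul_zero, add_zero]
    have w2 : hf v'' y = 0 := by
      rw [hv'']; simp only [ThreeTransSU.hf_add_left hF, ThreeTransSU.hf_smul_left hF, v2, z2,
        mul_zero, add_zero]
    have w4 : hf v'' u = 1 := by
      rw [hv'']; simp only [ThreeTransSU.hf_add_left hF, ThreeTransSU.hf_smul_left hF, v3, hzu,
        mul_zero, add_zero]
    obtain ⟨k, hk⟩ := ThreeTransSU.exists_trace hF (a := hf v'' v'' + 1) (by
      rw [GF4.add_sq hF, ← ThreeTransSU.hf_symm hF, one_pow])
    set m := v'' + k • u with hm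
    have m3 : hf m z = 0 := by
      rw [hm, ThreeTransSU.hf_add_left hF, ThreeTransSU.hf_smul_left hF, w3, u3, mul_zero, add_zero]
    have m1 : hf m x = 0 := by
      rw [hm, ThreeTransSU.hf_add_left hF, ThreeTransSU.hf_smul_left hF, w1, u1, mul_zero, add_zero]
    have m2 : hf m y = 0 := by
      rw [hm, ThreeTransSU.hf_add_left hF, ThreeTransSU.hf_smul_left hF, w2, u2, mul_zero, add_zero]
    have mm : hf m m = 1 := by
      rw [hm]
      simp only [ThreeTransSU.hf_add_left hF, ThreeTransSU.hf_add_right hF,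
        ThreeTransSU.hf_smul_left hF, ThreeTransSU.hf_smul_right hF, w4, huu,
        ThreeTransSU.hf_eq_one_symm hF w4, mul_one, mul_zero, add_zero]
      linear_combination hk + hf v'' v'' * h2
    exact pair z m hz mm m3 z1 z2 m1 m2
  refine ⟨hf w y * (hf x y)⁻¹, hf w x * (hf y x)⁻¹, ?_⟩
  set w₀ := w + ((hf w y * (hf x y)⁻¹) • x + (hf w x * (hf y x)⁻¹) • y) with hw₀
  have n1 : hf w₀ x = 0 := by
    rw [hw₀]; simp only [ThreeTransSU.hf_add_left hF, ThreeTransSU.hf_smul_left hF, hx, mul_zero,
      zero_add, inv_mul_cancel_right₀ hyx, Cfsg.Agent.U62Cover.add_self hF]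
  have n2 : hf w₀ y = 0 := by
    rw [hw₀]; simp only [ThreeTransSU.hf_add_left hF, ThreeTransSU.hf_smul_left hF, hy, mul_zero,
      add_zero, inv_mul_cancel_right₀ hxy, Cfsg.Agent.U62Cover.add_self hF]
  have hzero : w₀ = 0 := by
    refine Cfsg.Agent.Unitary.hermForm_nondeg (Cfsg.Agent.U62Cover.card_sq hF) n _ fun z => ?_
    show hf w₀ z = 0
    set z₀ := z + ((hf z y * (hf x y)⁻¹) • x + (hf z x * (hf y x)⁻¹) • y) with hz₀
    have q1 : hf z₀ x = 0 := by
      rw [hz₀]; simp only [ThreeTransSU.hf_add_left hF, ThreeTransSU.hf_smul_left hF, hx, mul_zero,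
        zero_add, inv_mul_cancel_right₀ hyx, Cfsg.Agent.U62Cover.add_self hF]
    have q2 : hf z₀ y = 0 := by
      rw [hz₀]; simp only [ThreeTransSU.hf_add_left hF, ThreeTransSU.hf_smul_left hF, hy, mul_zero,
        add_zero, inv_mul_cancel_right₀ hxy, Cfsg.Agent.U62Cover.add_self hF]
    have q3 : hf w₀ z₀ = 0 := (ThreeTransSU.hf_eq_zero_symm hF).1 (by
      rw [hw₀]; simp only [ThreeTransSU.hf_add_right hF, ThreeTransSU.hf_smul_right hF, q1, q2,
        all z₀ q1 q2, mul_zero, add_zero])
    rw [hz₀] at q3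
    simpa only [ThreeTransSU.hf_add_right hF, ThreeTransSU.hf_smul_right hF, n1, n2, mul_zero,
      add_zero] using q3
  rw [hw₀] at hzero
  funext i
  exact GF4.eq_of_add_zero hF (congrFun hzero i)

end Std

variable {F : Type*} [Field F] [Fintype F]

namespace Pre

/-- Recognition from coordinates. -/
theorem equiv_psu (h : Pre D) [Finite G] (hF : Fintype.card F = 4) {V : Type*} [AddCommGroup V]
    [Module F V] [Module.Finite F V] (H : V → V → F) (hH : Unitary.IsHerm 2 H)
    (hnd : Unitary.Nondeg H) (vec : G → V) (hne : ∀ d ∈ D, vec d ≠ 0)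
    (hcomm : ∀ d ∈ D, ∀ e ∈ D, (H (vec d) (vec e) = 0 ↔ Commute d e))
    (hsurj : ∀ v : V, v ≠ 0 → H v v = 0 → ∃ d ∈ D, ∃ k : F, v = k • vec d) :
    ∃ n : ℕ, Nonempty (G ≃* Cfsg.PSU n F 2) := by
  classical
  have hF2 := Cfsg.Agent.U62Cover.card_sq hF
  obtain ⟨b, hb⟩ := Unitary.exists_orthonormalBasis hF2 hH hnd
  generalize hn : Module.finrank F V = n at b hb
  let E : (Fin n → F) →ₗ[F] V := Fintype.linearCombination F b
  have hEH : ∀ x y, H (E x) (E y) = hf x y := by
    intro x y
    simp [E, hf, Fintype.linearCombination_apply, hH.sum_left, hH.smul_left, hH.sum_right hF2,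
      hH.smul_right, hb.apply, Cfsg.hermForm]
  have hEinj : Function.Injective E := by
    refine (injective_iff_map_eq_zero E).2 fun x hx => ?_
    refine Cfsg.Agent.Unitary.hermForm_nondeg hF2 n x fun z => ?_
    show hf x z = 0
    rw [← hEH, hx, hH.zero_left]
  let e : (Fin n → F) ≃ₗ[F] V := LinearEquiv.ofBijective E ⟨hEinj,
    (LinearMap.injective_iff_surjective_of_finrank_eq_finrank (by simp [hn])).1 hEinj⟩
  let u : G → (Fin n → F) := fun d => e.symm (vec d)
  have hu : ∀ d ∈ D, ∀ d' ∈ D, (hf (u d) (u d') = 0 ↔ Commute d d') := by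
    intro d hd d' hd'
    rw [← hcomm d hd d' hd', ← hEH, show E (u d) = vec d from e.apply_symm_apply _,
      show E (u d') = vec d' from e.apply_symm_apply _]
  have hiso : ∀ d ∈ D, Iso (u d) := fun d hd =>
    ⟨fun he => hne d hd (e.symm.map_eq_zero_iff.1 he), (hu d hd d hd).2 (Commute.refl d)⟩
  have husurj : ∀ v, Iso v → ∃ d ∈ D, ∃ k : F, v = k • u d := by
    intro v hv
    obtain ⟨d, hd, k, hk⟩ := hsurj (e v) (fun he => hv.1 (e.map_eq_zero_iff.1 he))
      ((hEH v v).trans hv.2)
    exact ⟨d, hd, k, e.injective (by rw [hk, map_smul, e.apply_symm_apply])⟩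
  have hinj : ∀ d ∈ D, ∀ d' ∈ D, ∀ k : F, k ≠ 0 → u d' = k • u d → d = d' := by
    intro d hd d' hd' k hk he
    refine h.vRel_eq hd hd' fun x hx => ?_
    rw [← hu d' hd' x hx, ← hu d hd x hx, he, ThreeTransSU.hf_smul_left hF]
    simp [hk]
  -- dimension
  obtain ⟨a, ha, -⟩ := id h.cls.2.1
  obtain ⟨c, hc, hac⟩ := exists_not_commute h.cls h.two ha
  obtain ⟨p, hp⟩ := h.exists_common ha hc hac
  obtain ⟨r, hr, hrp⟩ := h.nondeg ha hc hac hp
  have hn4 : 4 ≤ n := by
    have hli : LinearIndependent F ![u a, u c, u p, u r] := by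
      rw [Fintype.linearIndependent_iff]
      intro g hg
      simp only [Fin.sum_univ_four, Matrix.cons_val] at hg
      have key : ∀ z, g 0 * hf (u a) z + g 1 * hf (u c) z + g 2 * hf (u p) z + g 3 * hf (u r) z = 0 := by
        intro z
        have := congrArg (fun w => hf w z) hg
        simpa [ThreeTransSU.hf_add_left hF, ThreeTransSU.hf_smul_left hF,
          ThreeTransSU.hf_zero_left hF] using this
      have z : ∀ {x y : G}, x ∈ D → y ∈ D → Commute x y → hf (u x) (u y) = 0 :=
        fun hx hy hxy => (hu _ hx _ hy).2 hxy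
      have nz : ∀ {x y : G}, x ∈ D → y ∈ D → ¬ Commute x y → hf (u x) (u y) ≠ 0 :=
        fun hx hy hxy e => hxy ((hu _ hx _ hy).1 e)
      have k0 := key (u c)
      have k1 := key (u a)
      have k2 := key (u r)
      have k3 := key (u p)
      simp only [z hc hc (Commute.refl c), z hp.1 hc hp.2.2, z hr.1 hc hr.2.2, mul_zero, add_zero] at k0
      simp only [z ha ha (Commute.refl a), z hp.1 ha hp.2.1, z hr.1 ha hr.2.1, mul_zero, add_zero,
        zero_add] at k1
      simp only [z ha hr.1 hr.2.1.symm, z hc hr.1 hr.2.2.symm, z hr.1 hr.1 (Commute.refl r), mul_zero,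
        add_zero, zero_add] at k2
      simp only [z ha hp.1 hp.2.1.symm, z hc hp.1 hp.2.2.symm, z hp.1 hp.1 (Commute.refl p), mul_zero,
        add_zero, zero_add] at k3
      intro i
      fin_cases i
      · exact (mul_eq_zero.1 k0).resolve_right (nz ha hc hac)
      · exact (mul_eq_zero.1 k1).resolve_right (nz hc ha fun e => hac e.symm)
      · exact (mul_eq_zero.1 k2).resolve_right (nz hp.1 hr.1 fun e => hrp e.symm)
      · exact (mul_eq_zero.1 k3).resolve_right (nz hr.1 hp.1 hrp)
    simpa using hli.fintype_card_le_finrank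
  -- transvections
  let P : ↥D → {A : Cfsg.SU n F 2 // ∃ v, Iso v ∧ A = tv hF v} :=
    fun d => ⟨tv hF (u d), u d, hiso d d.2, rfl⟩
  have hPinj : Function.Injective P := by
    intro d d' hdd
    obtain ⟨k, hk, hk'⟩ := ThreeTransSU.tv_inj hF (hiso d d.2) (hiso d' d'.2)
      (congrArg Subtype.val hdd)
    exact Subtype.ext (hinj d d.2 d' d'.2 k hk hk')
  have hPsurj : Function.Surjective P := by
    rintro ⟨A, v, hv, rfl⟩
    obtain ⟨d, hd, k, rfl⟩ := husurj v hv
    have hk : k ≠ 0 := fun e => hv.1 (by rw [e, zero_smul])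
    exact ⟨⟨d, hd⟩, Subtype.ext (ThreeTransSU.tv_smul hF (hiso d hd) hk).symm⟩
  let eP := Equiv.ofBijective P ⟨hPinj, hPsurj⟩
  -- conjugation agrees
  have key : ∀ d ∈ D, ∀ e' ∈ D, tv hF (u (d * e' * d⁻¹)) = tv hF (u d) * tv hF (u e') * (tv hF (u d))⁻¹ := by
    intro d hd e' he'
    rw [ThreeTransSU.tv_conj_inv hF _ (hiso e' he').2]
    by_cases hde : Commute d e'
    · rw [conj_fix hde, ThreeTransSU.act_tv_of_orth hF (hiso d hd).2 ((hu e' he' d hd).2 hde.symm)]
    have hf0 : d * e' * d⁻¹ ∈ D := h.conj d e' he'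
    set x := u d
    set y := u e'
    set w := u (d * e' * d⁻¹)
    have hxy : hf x y ≠ 0 := fun e => hde ((hu d hd e' he').1 e)
    obtain ⟨α, β, hw⟩ := mem_plane hF hn4 (hiso d hd).2 (hiso e' he').2 hxy (w := w) fun z hz z1 z2 => by
      obtain ⟨f, hfD, k, rfl⟩ := husurj z hz
      have hk : k ≠ 0 := fun e => hz.1 (by rw [e, zero_smul])
      rw [ThreeTransSU.hf_smul_left hF, mul_eq_zero] at z1 z2 ⊢
      refine Or.inr ((hu f hfD _ hf0).2 ?_)
      have c1 := (hu f hfD d hd).1 (z1.resolve_left hk)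
      have c2 := (hu f hfD e' he').1 (z2.resolve_left hk)
      exact (c1.mul_right c2).mul_right c1.inv_right
    have hcd : ¬ Commute (d * e' * d⁻¹) d := fun e => hde (of_cmap d (by
      rw [conj_fix (Commute.refl d)]; exact e.symm))
    have hce : d * e' * d⁻¹ ≠ e' := fun e => hde (commute_of_fix e)
    have hβ : β ≠ 0 := by
      intro hb0
      refine hcd ((hu _ hf0 d hd).1 ?_)
      rw [show u (d * e' * d⁻¹) = α • x + β • y from hw, hb0, zero_smul, add_zero,
        ThreeTransSU.hf_smul_left hF, (hiso d hd).2, mul_zero]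
    have hα : α ≠ 0 := by
      intro ha0
      exact hce (hinj e' he' _ hf0 β hβ
        (by rw [show u (d * e' * d⁻¹) = α • x + β • y from hw, ha0, zero_smul, zero_add])).symm
    have hww := (hiso _ hf0).2
    rw [show u (d * e' * d⁻¹) = α • x + β • y from hw] at hww
    simp only [ThreeTransSU.hf_add_left hF, ThreeTransSU.hf_add_right hF,
      ThreeTransSU.hf_smul_left hF, ThreeTransSU.hf_smul_right hF,
      show hf x x = 0 from (hiso d hd).2, show hf y y = 0 from (hiso e' he').2,
      mul_zero, zero_add, add_zero] at hww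
    rw [ThreeTransSU.hf_symm hF x y] at hww
    set γ := α * (β ^ 2 * hf x y) with hγ
    have hγ1 : γ = 1 := by
      refine Cfsg.Agent.U62Cover.fixed_eq_one hF ?_ (mul_ne_zero hα (mul_ne_zero (pow_ne_zero 2 hβ) hxy))
      refine GF4.eq_of_add_zero hF ?_
      rw [hγ, mul_pow, mul_pow, GF4.sq_sq hF]
      linear_combination hww
    have hαv : α = β * hf y x := by
      rw [ThreeTransSU.hf_symm hF x y]
      rw [hγ] at hγ1
      linear_combination (β * hf x y ^ 2) * hγ1 - (α * β * β ^ 2) * GF4.mul_sq_self hF hxy -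
        α * GF4.mul_sq_self hF hβ
    have hwe : w = β • act (tv hF x) y := by
      rw [ThreeTransSU.act_tv hF (hiso d hd).2, smul_add, smul_smul, ← hαv, hw, add_comm]
    rw [hwe, ThreeTransSU.tv_smul hF ((hiso e' he').act _) hβ]
  -- the two actions on `D`
  let φ : G →* Equiv.Perm ↥D :=
    { toFun := fun g =>
        { toFun := fun x => ⟨g * x * g⁻¹, h.conj g x x.2⟩
          invFun := fun x => ⟨g⁻¹ * x * g, by simpa using h.conj g⁻¹ x x.2⟩
          left_inv := fun x => Subtype.ext (by simp [mul_assoc])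
          right_inv := fun x => Subtype.ext (by simp [mul_assoc]) }
      map_one' := Equiv.ext fun x => Subtype.ext (by simp)
      map_mul' := fun g g' => Equiv.ext fun x => Subtype.ext (by
        show g * g' * x * (g * g')⁻¹ = g * (g' * x * g'⁻¹) * g⁻¹; group) }
  have hφinj : Function.Injective φ := by
    refine (injective_iff_map_eq_one φ).2 fun g hg => ?_
    have hcen : g ∈ Subgroup.center G := commute_all_of_gen h.cls.2.2 fun x hx => by
      have := congrArg Subtype.val (Equiv.congr_fun hg ⟨x, hx⟩)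
      exact (commute_of_fix (show g * x * g⁻¹ = x from this)).symm
    rwa [center_eq_bot_of_trivialRadical h.rad, Subgroup.mem_bot] at hcen
  let ψ₀ : Cfsg.SU n F 2 →* Equiv.Perm {A : Cfsg.SU n F 2 // ∃ v, Iso v ∧ A = tv hF v} :=
    { toFun := fun g =>
        { toFun := fun A => ⟨g * A.1 * g⁻¹, by
            obtain ⟨v, hv, e⟩ := A.2
            exact ⟨act g v, hv.act g, by rw [e, ThreeTransSU.tv_conj_inv hF g hv.2]⟩⟩
          invFun := fun A => ⟨g⁻¹ * A.1 * g, by
            obtain ⟨v, hv, e⟩ := A.2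
            exact ⟨act g⁻¹ v, hv.act g⁻¹, by
              rw [e, ← ThreeTransSU.tv_conj_inv hF g⁻¹ hv.2, inv_inv]⟩⟩
          left_inv := fun A => Subtype.ext (by simp [mul_assoc])
          right_inv := fun A => Subtype.ext (by simp [mul_assoc]) }
      map_one' := Equiv.ext fun x => Subtype.ext (by simp)
      map_mul' := fun g g' => Equiv.ext fun x => Subtype.ext (by
        show g * g' * x.1 * (g * g')⁻¹ = g * (g' * x.1 * g'⁻¹) * g⁻¹; group) }
  let ψ : Cfsg.SU n F 2 →* Equiv.Perm ↥D := (eP.symm.permCongrHom.toMonoidHom).comp ψ₀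
  have hψ : ∀ d : ↥D, ψ (tv hF (u d)) = φ d := by
    intro d
    apply Equiv.ext
    intro x
    show eP.symm (ψ₀ (tv hF (u d)) (eP x)) = φ d x
    rw [Equiv.symm_apply_eq]
    exact Subtype.ext (key d d.2 x x.2).symm
  have hrange : ψ.range = φ.range := by
    apply le_antisymm
    · rw [MonoidHom.range_eq_map ψ,
        ← ThreeTransSU.closure_tv hF hn4, MonoidHom.map_closure, Subgroup.closure_le]
      rintro _ ⟨A, hA, rfl⟩
      obtain ⟨d, hd⟩ := hPsurj ⟨A, hA⟩
      have : A = tv hF (u d) := (congrArg Subtype.val hd).symm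
      exact ⟨d, by rw [this, hψ]⟩
    · rw [MonoidHom.range_eq_map φ, ← h.cls.2.2, MonoidHom.map_closure, Subgroup.closure_le]
      rintro _ ⟨x, hx, rfl⟩
      exact ⟨tv hF (u x), hψ ⟨x, hx⟩⟩
  have hker : ψ.ker = Subgroup.center (Cfsg.SU n F 2) := by
    ext g
    rw [MonoidHom.mem_ker, Subgroup.mem_center_iff]
    constructor
    · intro hg
      have hg0 : ψ₀ g = 1 := eP.symm.permCongrHom.injective (hg.trans (map_one _).symm)
      intro A
      have hA : A ∈ Subgroup.closure {A : Cfsg.SU n F 2 | ∃ v, Iso v ∧ A = tv hF v} := by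
        rw [ThreeTransSU.closure_tv hF hn4]; exact Subgroup.mem_top A
      have hc : Commute g A := by
        induction hA using Subgroup.closure_induction with
        | mem A hA =>
          have := congrArg Subtype.val (Equiv.congr_fun hg0 ⟨A, hA⟩)
          exact commute_of_fix (show g * A * g⁻¹ = A from this)
        | one => exact Commute.one_right g
        | mul A B _ _ h1 h2 => exact h1.mul_right h2
        | inv A _ h1 => exact h1.inv_right
      exact hc.eq.symm
    · intro hg
      have h0 : ψ₀ g = 1 := Equiv.ext fun A => Subtype.ext (by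
        show g * A.1 * g⁻¹ = A.1
        rw [← hg A.1, mul_inv_cancel_right])
      show eP.symm.permCongrHom (ψ₀ g) = 1
      rw [h0, map_one]
  exact ⟨n, ⟨((MonoidHom.ofInjective hφinj).trans (MulEquiv.subgroupCongr hrange.symm)).trans
    ((QuotientGroup.quotientKerEquivRange ψ).symm.trans (QuotientGroup.quotientMulEquivOfEq hker))⟩⟩

end Pre

end Cfsg.Agent.ThreeTrans.Polar
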